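import Cfsg.Agent.H291.SCMon
import Cfsg.Prelude.Def_CaseTheorems
import Cfsg.Agent.H332.BabyUpper
import Cfsg.Agent.H478.SporBaby
import Cfsg.Agent.H537.CopDefs
import Cfsg.Agent.H713.Spor.B
import Cfsg.Agent.KFacts.Baby.RowB_m3
import Cfsg.Agent.H547.PP.FarBaby
import Cfsg.Agent.BabyM.Instance
import Cfsg.Agent.FastGrp
import Cfsg.Agent.Prune
set_option linter.all false
prune_inst 0x7f00000000000000000000000000000000000000000000000000000000000000000000000000000000000000000000000000000000000000000000000000000000000000000000000000000000000000003fffffffffffffffffffffffffffbeffbdffffffff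
open scoped Cfsg.Agent.FastGrp

-- part: H291/SCAbs
section
/-!
# Elements of order 47 of the Baby Monster: the abstract argument (helper291)

`BHyp G`: the facts on the Baby Monster that are used; `BHyp.sc`: the elements of order 47 are self-centralizing.
-/

set_option autoImplicit false

namespace Cfsg.Agent.H291.SCAbs

open Subgroup Cfsg Cfsg.Agent.H995.CopEngine Cfsg.Agent.H291.SolNorm
open scoped Pointwise

universe u

/-- `|B|` -/
abbrev NB : ℕ := 4154781481226426191177580544000000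

/-- The facts. -/
structure BHyp (G : Type u) [Group G] : Prop where
  simple : IsSimpleGroup G
  card : Nat.card G = NB
  inv : ∀ t : G, orderOf t = 2 → ¬ 47 ∣ Nat.card (centralizer ({t} : Set G))
  seven : ∀ y : G, orderOf y = 7 → ¬ 47 ∣ Nat.card (centralizer ({y} : Set G))
  rank : PRankLE 2 14 G
  three : ∀ y : G, orderOf y = 3 → SolIdx 47 (centralizer ({y} : Set G))
  five : ∀ y : G, orderOf y = 5 → SolIdx 47 (centralizer ({y} : Set G))
  tr : ∃ D : Set G, D.Nonempty ∧ (∀ d ∈ D, ∀ g : G, g * d * g⁻¹ ∈ D) ∧ (∀ d ∈ D, orderOf d = 2) ∧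
    (∀ d ∈ D, ∀ e ∈ D, orderOf (d * e) ≤ 4) ∧
    ∀ d ∈ D, Nat.card (centralizer ({d} : Set G)) = 306129918735099415756800

theorem p47 : Nat.Prime 47 := by norm_num

theorem sq47 : ¬ 47 ^ 2 ∣ NB := by norm_num

/-- the prime divisors -/
theorem prime_list {p : ℕ} (hp : p.Prime) (h : p ∣ NB) :
    p ∈ ([2, 3, 5, 7, 11, 13, 17, 19, 23, 31, 47] : List ℕ) := by
  have e1 : NB = 2 ^ 41 * (3 ^ 13 * (5 ^ 6 * (7 ^ 2 * (11 * (13 * (17 * (19 * (23 * (31 * 47))))))))) := by norm_num
  rw [e1] at h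
  have key : ∀ {q k : ℕ}, q.Prime → p ∣ q ^ k → p = q := fun hq h1 =>
    (Nat.prime_dvd_prime_iff_eq hp hq).1 (hp.dvd_of_dvd_pow h1)
  have key1 : ∀ {q : ℕ}, q.Prime → p ∣ q → p = q := fun hq h1 => (Nat.prime_dvd_prime_iff_eq hp hq).1 h1
  rcases hp.dvd_mul.1 h with h | h
  · have := key Nat.prime_two h; subst this; simp
  rcases hp.dvd_mul.1 h with h | h
  · have := key Nat.prime_three h; subst this; simp
  rcases hp.dvd_mul.1 h with h | h
  · have := key Nat.prime_five h; subst this; simp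
  rcases hp.dvd_mul.1 h with h | h
  · have := key (by norm_num) h; subst this; simp
  rcases hp.dvd_mul.1 h with h | h
  · have := key1 (by norm_num) h; subst this; simp
  rcases hp.dvd_mul.1 h with h | h
  · have := key1 (by norm_num) h; subst this; simp
  rcases hp.dvd_mul.1 h with h | h
  · have := key1 (by norm_num) h; subst this; simp
  rcases hp.dvd_mul.1 h with h | h
  · have := key1 (by norm_num) h; subst this; simp
  rcases hp.dvd_mul.1 h with h | h
  · have := key1 (by norm_num) h; subst this; simp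
  rcases hp.dvd_mul.1 h with h | h
  · have := key1 (by norm_num) h; subst this; simp
  · have := key1 (by norm_num) h; subst this; simp

theorem cond_odd {p : ℕ} (hp : p.Prime) (hp2 : p ≠ 2) (hp47 : p ≠ 47) :
    ∀ i, 1 ≤ i → p ^ i ∣ NB → ¬ 47 ∣ p ^ i - 1 := by
  by_cases hpN : p ∣ NB
  · have h1 := prime_list hp hpN
    simp only [List.mem_cons, List.not_mem_nil, or_false] at h1
    rcases h1 with rfl | rfl | rfl | rfl | rfl | rfl | rfl | rfl | rfl | rfl | rfl
    · exact absurd rfl hp2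
    · exact cond_of_chk (m := 13) hp (by norm_num) (by decide +kernel)
    · exact cond_of_chk (m := 6) hp (by norm_num) (by decide +kernel)
    · exact cond_of_chk (m := 2) hp (by norm_num) (by decide +kernel)
    · exact cond_of_chk (m := 1) hp (by norm_num) (by decide +kernel)
    · exact cond_of_chk (m := 1) hp (by norm_num) (by decide +kernel)
    · exact cond_of_chk (m := 1) hp (by norm_num) (by decide +kernel)
    · exact cond_of_chk (m := 1) hp (by norm_num) (by decide +kernel)
    · exact cond_of_chk (m := 1) hp (by norm_num) (by decide +kernel)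
    · exact cond_of_chk (m := 1) hp (by norm_num) (by decide +kernel)
    · exact absurd rfl hp47
  · intro i hi hd
    exact absurd ((dvd_pow_self p (by omega)).trans hd) hpN

/-! ### an element of order 47 normalizes no elementary abelian 2-group of order at most `2 ^ 14` -/

theorem two_pow_mod {k : ℕ} (h1 : 1 ≤ k) (h2 : k ≤ 14) : 2 ^ k % 47 ≠ 1 := by
  interval_cases k <;> norm_num

theorem no_elem {H : Type u} [Group H] [Finite H] {w : H} (hw : w ^ 47 = 1) (hinv : ∀ t : H, orderOf t = 2 → t * w ≠ w * t)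
    {E : Subgroup H} (hE : ∀ a ∈ E, w * a * w⁻¹ ∈ E) (hE2 : ∀ a ∈ E, a ^ 2 = 1) (hE1 : E ≠ ⊥) (hc : Nat.card E ≤ 2 ^ 14) :
    False := by
  classical
  have : Fact (Nat.Prime 47) := ⟨p47⟩
  have : Fact (Nat.Prime 2) := ⟨Nat.prime_two⟩
  have hp : IsPGroup 2 E := fun a => ⟨1, Subtype.ext (by
    rw [pow_one]
    exact hE2 a a.2)⟩
  obtain ⟨k, hk⟩ := IsPGroup.iff_card.1 hp
  have hk14 : k ≤ 14 := (Nat.pow_le_pow_iff_right (by norm_num : 1 < 2)).1 (hk ▸ hc)
  have hk1 : 1 ≤ k := by
    rcases Nat.eq_zero_or_pos k with h | h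
    · rw [h, pow_zero] at hk
      exact absurd (Subgroup.card_eq_one.1 hk) hE1
    · exact h
  let f : Function.End E := fun a => ⟨w * a * w⁻¹, hE a a.2⟩
  have hfn : ∀ (n : ℕ) (a : E), (((f ^ n : Function.End E) a : E) : H) = w ^ n * a * (w ^ n)⁻¹ := by
    intro n
    induction n with
    | zero =>
      intro a
      rw [pow_zero, pow_zero, one_mul, inv_one, mul_one]
      rfl
    | succ n ih =>
      intro a
      rw [pow_succ']
      change w * (((f ^ n : Function.End E) a : E) : H) * w⁻¹ = _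
      rw [ih, pow_succ']
      group
  have hf : f ^ 47 ^ 1 = 1 := by
    funext a
    apply Subtype.ext
    rw [pow_one, hfn, hw, one_mul, inv_one, mul_one]
    rfl
  have : Fintype E := Fintype.ofFinite _
  have h1 := Equiv.Perm.card_fixedPoints_modEq hf
  have h2 : Fintype.card f.fixedPoints = 1 := by
    rw [Fintype.card_eq_one_iff]
    refine ⟨⟨1, ?_⟩, ?_⟩
    · apply Subtype.ext
      change w * 1 * w⁻¹ = 1
      group
    · rintro ⟨a, ha⟩
      apply Subtype.ext
      change a = 1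
      by_contra hne
      have h3 : w * (a : H) * w⁻¹ = a := congrArg Subtype.val ha
      refine hinv a ?_ ?_
      · refine orderOf_eq_prime (hE2 a a.2) fun h => hne (Subtype.ext h)
      · rw [mul_inv_eq_iff_eq_mul] at h3
        exact h3.symm
  rw [h2, ← Nat.card_eq_fintype_card, hk] at h1
  have h4 : 2 ^ k % 47 = 1 % 47 := h1
  exact two_pow_mod hk1 hk14 h4

/-- the elements of order at most 2 of the centre of a subgroup -/
def om {H : Type*} [Group H] (P : Subgroup H) : Subgroup H where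
  carrier := {v | v ∈ P ∧ (∀ a ∈ P, v * a = a * v) ∧ v ^ 2 = 1}
  one_mem' := ⟨P.one_mem, fun a _ => by rw [one_mul, mul_one], one_pow 2⟩
  mul_mem' := by
    rintro a b ⟨h1, h2, h3⟩ ⟨h4, h5, h6⟩
    refine ⟨P.mul_mem h1 h4, fun c hc => ?_, ?_⟩
    · rw [mul_assoc, h5 c hc, ← mul_assoc, h2 c hc, mul_assoc]
    · rw [(show Commute a b from h2 b h4).mul_pow, h3, h6, one_mul]
  inv_mem' := by
    rintro a ⟨h1, h2, h3⟩
    refine ⟨P.inv_mem h1, fun c hc => ?_, by rw [inv_pow, h3, inv_one]⟩
    exact ((show Commute a c from h2 c hc).inv_left).eq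

theorem om_ne_bot {H : Type*} [Group H] [Finite H] {P : Subgroup H} (hP : IsPGroup 2 P) (h : P ≠ ⊥) : om P ≠ ⊥ := by
  have : Fact (Nat.Prime 2) := ⟨Nat.prime_two⟩
  have : Nontrivial P := (Subgroup.nontrivial_iff_ne_bot P).2 h
  have h1 : Nontrivial (center P) := hP.center_nontrivial
  obtain ⟨k, hk⟩ := IsPGroup.iff_card.1 (hP.to_subgroup (center P))
  have h2 : 2 ∣ Nat.card (center P) := by
    rw [hk]
    rcases Nat.eq_zero_or_pos k with h3 | h3
    · rw [h3, pow_zero] at hk
      have := Finite.one_lt_card (α := center P)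
      omega
    · exact dvd_pow_self 2 h3.ne'
  obtain ⟨v, hv⟩ := exists_prime_orderOf_dvd_card' 2 h2
  intro h3
  have h4 : ((v : P) : H) ∈ om P := by
    refine ⟨(v : P).2, fun a ha => ?_, ?_⟩
    · exact (congrArg Subtype.val (mem_center_iff.1 v.2 ⟨a, ha⟩)).symm
    · have h5 : v ^ 2 = 1 := by rw [← hv, pow_orderOf_eq_one]
      exact congrArg (fun t : center P => ((t : P) : H)) h5
  rw [h3, mem_bot] at h4
  have h5 : v = 1 := Subtype.ext (Subtype.ext h4)
  rw [h5, orderOf_one] at hv
  norm_num at hv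

/-- **An element of order 47 centralizes the `47'`-subgroups which it normalizes.** -/
theorem BHyp.triv {G : Type u} [Group G] [Finite G] (B : BHyp G) {K : Subgroup G} {x : G} (hx : orderOf x = 47)
    (hxK : x ∈ normalizer (K : Set G)) (h47 : ¬ 47 ∣ Nat.card K) : ∀ a ∈ K, x * a = a * x := by
  classical
  have : Fact (Nat.Prime 47) := ⟨p47⟩
  have : Fact (Nat.Prime 2) := ⟨Nat.prime_two⟩
  set H := normalizer (K : Set G) with hH
  have hKH : K ≤ H := le_normalizer
  set K' : Subgroup H := K.subgroupOf H with hK'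
  have hn : K'.Normal := normal_in_normalizer
  have hcK : Nat.card K' = Nat.card K := Nat.card_congr (subgroupOfEquivOfLe hKH).toEquiv
  have h47' : ¬ 47 ∣ Nat.card K' := by rwa [hcK]
  set w : H := ⟨x, hxK⟩ with hw
  have hw47 : w ^ 47 = 1 := Subtype.ext (by
    change x ^ 47 = 1
    rw [← hx, pow_orderOf_eq_one])
  have hKN : Nat.card K' ∣ NB := by
    rw [hcK, ← B.card]
    exact card_subgroup_dvd_card K
  have hinv : ∀ t : H, orderOf t = 2 → t * w ≠ w * t := by
    intro t ht hc
    refine B.inv (t : G) (by rw [Subgroup.orderOf_coe, ht]) ?_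
    have h1 : x ∈ centralizer ({(t : G)} : Set G) := mem_centralizer_singleton_iff.2 (congrArg Subtype.val hc).symm
    have h2 := orderOf_dvd_natCard (⟨x, h1⟩ : centralizer ({(t : G)} : Set G))
    rwa [Subgroup.orderOf_mk, hx] at h2
  -- `K` has odd order
  have hodd : ¬ 2 ∣ Nat.card K' := by
    intro h2
    obtain ⟨P, hP⟩ := Cfsg.Agent.H995.CopEngine.exists_fixed p47 K' h47' hw47 (p := 2)
    set P' : Subgroup H := (P : Subgroup K').map K'.subtype with hP'
    have hwP : ∀ a ∈ P', w * a * w⁻¹ ∈ P' := by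
      rintro _ ⟨y, hy, rfl⟩
      have h3 : (MulAut.conjNormal w : MulAut K') • y ∈ (MulAut.conjNormal w : MulAut K') • (P : Subgroup K') :=
        Subgroup.smul_mem_pointwise_smul _ _ _ hy
      have h4 : ((MulAut.conjNormal w : MulAut K') • (P : Subgroup K')) = (P : Subgroup K') :=
        congrArg (fun Q : Sylow 2 K' => (Q : Subgroup K')) hP
      rw [h4] at h3
      exact ⟨_, h3, MulAut.conjNormal_apply w y⟩
    have hcP : Nat.card P' = Nat.card (P : Subgroup K') := card_map_of_injective K'.subtype_injective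
    -- the inverse of `w` also preserves `P'`
    have hwn : ∀ n : ℕ, ∀ a ∈ P', w ^ n * a * (w ^ n)⁻¹ ∈ P' := by
      intro n
      induction n with
      | zero => intro a ha; rwa [pow_zero, one_mul, inv_one, mul_one]
      | succ n ih =>
        intro a ha
        have h5 := hwP _ (ih a ha)
        have h6 : w ^ (n + 1) * a * (w ^ (n + 1))⁻¹ = w * (w ^ n * a * (w ^ n)⁻¹) * w⁻¹ := by
          rw [pow_succ']
          group
        rwa [h6]
    have hwi : ∀ a ∈ P', w⁻¹ * a * w ∈ P' := by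
      intro a ha
      have h5 := hwn 46 a ha
      have h6 : w ^ 46 = w⁻¹ := by
        rw [eq_inv_iff_mul_eq_one, ← pow_succ]
        exact hw47
      rwa [h6, inv_inv] at h5
    have hPP : IsPGroup 2 P' := P.2.map _
    have hPb : P' ≠ ⊥ := by
      intro h5
      have h6 := Sylow.card_eq_multiplicity P
      rw [← hcP, h5, Subgroup.card_bot] at h6
      have h7 : 1 ≤ (Nat.card K').factorization 2 :=
        (Nat.prime_two.dvd_iff_one_le_factorization Nat.card_pos.ne').1 h2
      have h8 : 2 ^ 1 ≤ 2 ^ (Nat.card K').factorization 2 := Nat.pow_le_pow_right (by norm_num) h7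
      rw [← h6] at h8
      norm_num at h8
    refine no_elem hw47 hinv (E := om P') ?_ (fun a ha => ha.2.2) (om_ne_bot hPP hPb) ?_
    · rintro a ⟨h5, h6, h7⟩
      refine ⟨hwP a h5, fun c hc => ?_, ?_⟩
      · have h8 := h6 _ (hwi c hc)
        calc w * a * w⁻¹ * c = w * (a * (w⁻¹ * c * w)) * w⁻¹ := by group
          _ = w * ((w⁻¹ * c * w) * a) * w⁻¹ := by rw [h8]
          _ = c * (w * a * w⁻¹) := by group
      · rw [conj_pow, h7, mul_one, mul_inv_cancel]
    · have h5 := B.rank ((om P').map H.subtype) ?_ ?_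
      · rwa [card_map_of_injective H.subtype_injective] at h5
      · refine ⟨⟨?_⟩⟩
        rintro ⟨_, a, ha, rfl⟩ ⟨_, b, hb, rfl⟩
        apply Subtype.ext
        exact congrArg H.subtype (ha.2.1 b hb.1)
      · rintro _ ⟨a, ha, rfl⟩
        exact congrArg Subtype.val ha.2.2
  -- all the Sylow subgroups are centralized
  have hall : Nat.card K' ∣ Nat.card (K' ⊓ centralizer ({w} : Set H) : Subgroup H) := by
    rw [Nat.dvd_iff_prime_pow_dvd_dvd]
    intro p k hp hk
    rcases Nat.eq_zero_or_pos k with rfl | hk0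
    · rw [pow_zero]; exact one_dvd _
    have hpK : p ∣ Nat.card K' := (dvd_pow_self p hk0.ne').trans hk
    have hp2 : p ≠ 2 := by
      rintro rfl
      exact hodd hpK
    have hp47 : p ≠ 47 := by
      rintro rfl
      exact h47' hpK
    exact Cfsg.Agent.H995.CopEngine.pow_dvd_cent p47 K' h47' hw47 hp hp47 hk (cond_mono (cond_odd hp hp2 hp47) hKN)
  have heq : K' ⊓ centralizer ({w} : Set H) = K' := by
    apply eq_of_le_of_card_ge inf_le_left
    exact Nat.le_of_dvd Nat.card_pos hall
  intro a ha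
  have h1 : (⟨a, hKH ha⟩ : H) ∈ K' := mem_subgroupOf.2 ha
  rw [← heq] at h1
  exact (congrArg Subtype.val (mem_centralizer_singleton_iff.1 h1.2)).symm

/-! ### normalizers -/

/-- an element of order prime to 46 which normalizes a group of order 47 centralizes it -/
theorem comm_of_normalizer {G : Type u} [Group G] [Finite G] {x g : G} (hx : orderOf x = 47)
    (hg : g ∈ normalizer (zpowers x : Set G)) (hc : Nat.Coprime (orderOf g) 46) : g * x = x * g := by
  have h1 := relIndex_centralizer_dvd p47 (zpowers x) (by rw [Nat.card_zpowers, hx])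
  have hle : centralizer (zpowers x : Set G) ≤ normalizer (zpowers x : Set G) := centralizer_le_normalizer _
  set N := normalizer (zpowers x : Set G) with hN
  set C := (centralizer (zpowers x : Set G)).subgroupOf N with hC
  have hCn : C.Normal := by
    rw [hC, hN, ← Subgroup.normalizerMonoidHom_ker]
    infer_instance
  have h2 : ((⟨g, hg⟩ : N) : N ⧸ C) = 1 := by
    rw [← orderOf_eq_one_iff]
    have h3 : orderOf ((⟨g, hg⟩ : N) : N ⧸ C) ∣ orderOf g := by
      apply orderOf_dvd_of_pow_eq_one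
      rw [← QuotientGroup.mk_pow]
      have h4 : (⟨g, hg⟩ : N) ^ orderOf g = 1 := Subtype.ext (pow_orderOf_eq_one g)
      rw [h4, QuotientGroup.mk_one]
    have h4 : orderOf ((⟨g, hg⟩ : N) : N ⧸ C) ∣ 46 := by
      exact (_root_.orderOf_dvd_natCard _).trans h1
    exact Nat.dvd_one.1 (hc ▸ Nat.dvd_gcd h3 h4)
  have h5 : (⟨g, hg⟩ : N) ∈ C := (QuotientGroup.eq_one_iff _).1 h2
  have h6 : g ∈ centralizer (zpowers x : Set G) := mem_subgroupOf.1 h5
  exact (mem_centralizer_iff.1 h6 x (mem_zpowers x)).symm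

/-- no transposition normalizes a group of order 47 -/
theorem no_tr {G : Type u} [Group G] [Finite G] (B : BHyp G) {D : Set G} (h1 : ∀ d ∈ D, ∀ g : G, g * d * g⁻¹ ∈ D)
    (h2 : ∀ d ∈ D, orderOf d = 2) (h3 : ∀ d ∈ D, ∀ e ∈ D, orderOf (d * e) ≤ 4) {x d : G} (hx : orderOf x = 47)
    (hd : d ∈ D) (hdx : d ∈ normalizer (zpowers x : Set G)) : False := by
  have hdd : d * d = 1 := by
    rw [← pow_two, ← h2 d hd, pow_orderOf_eq_one]
  have hmem : d * (x * d * x⁻¹) ∈ zpowers x := by
    have h4 : d * x * d⁻¹ ∈ zpowers x := (mem_normalizer_iff.1 hdx x).1 (mem_zpowers x)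
    have h5 : d * (x * d * x⁻¹) = (d * x * d⁻¹) * x⁻¹ := by
      rw [inv_eq_of_mul_eq_one_left hdd]
      group
    rw [h5]
    exact mul_mem h4 (inv_mem (mem_zpowers x))
  have h6 := h3 d hd _ (h1 d hd x)
  have h7 : orderOf (d * (x * d * x⁻¹)) ∣ 47 := by
    rw [← hx, ← Nat.card_zpowers x]
    exact Subgroup.orderOf_dvd_natCard _ hmem
  rcases (Nat.dvd_prime p47).1 h7 with h8 | h8
  · rw [orderOf_eq_one_iff] at h8
    have h9 : x * d * x⁻¹ = d := by
      calc x * d * x⁻¹ = d⁻¹ * (d * (x * d * x⁻¹)) := by group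
        _ = d⁻¹ := by rw [h8, mul_one]
        _ = d := inv_eq_of_mul_eq_one_left hdd
    refine B.inv d (h2 d hd) ?_
    have h10 : x ∈ centralizer ({d} : Set G) := mem_centralizer_singleton_iff.2 (mul_inv_eq_iff_eq_mul.1 h9)
    have h11 := orderOf_dvd_natCard (⟨x, h10⟩ : centralizer ({d} : Set G))
    rwa [Subgroup.orderOf_mk, hx] at h11
  · omega

/-- the step from `P K` to `P` -/
theorem le_normalizer_of {G : Type u} [Group G] [Finite G] (B : BHyp G) {X : Subgroup G} {x : G} (hx : orderOf x = 47)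
    (hxX : x ∈ X) (h : ∃ (K : Subgroup X) (_ : K.Normal), ¬ 47 ∣ Nat.card K ∧ ∀ P : Sylow 47 X, ((P : Subgroup X) ⊔ K).Normal) :
    X ≤ normalizer (zpowers x : Set G) := by
  have : Fact (Nat.Prime 47) := ⟨p47⟩
  obtain ⟨K, hK, h47, hP⟩ := h
  set x' : X := ⟨x, hxX⟩ with hx'
  have hxo : orderOf x' = 47 := by rw [hx', Subgroup.orderOf_mk, hx]
  have hXN : Nat.card X ∣ NB := B.card ▸ card_subgroup_dvd_card X
  have hidx : ¬ 47 ∣ (zpowers x').index := by
    intro h1
    apply sq47
    refine dvd_trans ?_ hXN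
    rw [← (zpowers x').card_mul_index, Nat.card_zpowers, hxo, pow_two]
    exact Nat.mul_dvd_mul_left 47 h1
  have hpg : IsPGroup 47 (zpowers x') := IsPGroup.of_card (n := 1) (by rw [Nat.card_zpowers, hxo, pow_one])
  let P : Sylow 47 X := hpg.toSylow hidx
  have hPx : (P : Subgroup X) = zpowers x' := rfl
  have hn := hP P
  rw [hPx] at hn
  -- `x` centralizes `K`
  have hcK : ∀ a ∈ K, x' * a = a * x' := by
    intro a ha
    have h1 := B.triv (K := K.map X.subtype) hx ?_ ?_ (a : G) ⟨a, ha, rfl⟩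
    · exact Subtype.ext h1
    · have h2 : X ≤ normalizer (K.map X.subtype : Set G) := by
        intro g hg
        rw [mem_normalizer_iff]
        intro t
        constructor
        · rintro ⟨b, hb, rfl⟩
          exact ⟨(⟨g, hg⟩ * b * ⟨g, hg⟩⁻¹ :), hK.conj_mem b hb _, rfl⟩
        · rintro ⟨b, hb, hbt⟩
          refine ⟨(⟨g, hg⟩⁻¹ * b * ⟨g, hg⟩ :), ?_, ?_⟩
          · have h3 := hK.conj_mem b hb (⟨g, hg⟩⁻¹)
            rwa [inv_inv] at h3
          · change g⁻¹ * (b : G) * g = t
            rw [show (b : G) = g * t * g⁻¹ from hbt]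
            group
      exact h2 hxX
    · rwa [card_map_of_injective X.subtype_injective]
  intro g hg
  have key : ∀ g : X, g * x' * g⁻¹ ∈ zpowers x' := by
    intro g
    have h1 : g * x' * g⁻¹ ∈ zpowers x' ⊔ K := hn.conj_mem x' ((le_sup_left : zpowers x' ≤ _) (mem_zpowers x')) g
    rw [Subgroup.mem_sup_of_normal_right] at h1
    obtain ⟨a, ha, b, hb, hab⟩ := h1
    obtain ⟨k, hk⟩ := ha
    have hcab : Commute a b := by
      rw [← hk]
      exact (show Commute x' b from hcK b hb).zpow_left k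
    have h2 : (a * b) ^ 47 = 1 := by
      rw [hab, conj_pow, ← hxo, pow_orderOf_eq_one, mul_one, mul_inv_cancel]
    have h3 : a ^ 47 = 1 := by
      rw [← hk]
      change (x' ^ k) ^ 47 = 1
      rw [← zpow_natCast, zpow_comm, zpow_natCast, ← hxo, pow_orderOf_eq_one, one_zpow]
    rw [hcab.mul_pow, h3, one_mul] at h2
    have h4 : orderOf b ∣ 47 := orderOf_dvd_of_pow_eq_one h2
    have h5 : orderOf b ∣ Nat.card K := Subgroup.orderOf_dvd_natCard K hb
    have h6 : b = 1 := by
      rcases (Nat.dvd_prime p47).1 h4 with h7 | h7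
      · exact orderOf_eq_one_iff.1 h7
      · rw [h7] at h5
        exact absurd h5 h47
    rw [← hab, h6, mul_one]
    exact ⟨k, hk⟩
  rw [mem_normalizer_iff]
  have hconj : ∀ (g : X) (t : G), t ∈ zpowers x → (g : G) * t * (g : G)⁻¹ ∈ zpowers x := by
    rintro g _ ⟨k, rfl⟩
    change (g : G) * x ^ k * (g : G)⁻¹ ∈ zpowers x
    obtain ⟨j, hj⟩ := key g
    have hj' : x ^ j = (g : G) * x * (g : G)⁻¹ := congrArg Subtype.val hj
    rw [← conj_zpow, ← hj', ← zpow_mul]
    exact ⟨j * k, rfl⟩
  intro t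
  constructor
  · exact hconj ⟨g, hg⟩ t
  · intro h1
    have h2 := hconj ⟨g, hg⟩⁻¹ _ h1
    have h3 : ((⟨g, hg⟩⁻¹ : X) : G) * (g * t * g⁻¹) * ((⟨g, hg⟩⁻¹ : X) : G)⁻¹ = t := by
      change g⁻¹ * (g * t * g⁻¹) * g⁻¹⁻¹ = t
      group
    rwa [h3] at h2

/-- `centralizer {y} ≤ normalizer ⟨x⟩` for all commuting `y` of order `q`, `x` of order 47 -/
def Star (G : Type u) [Group G] (q : ℕ) : Prop :=
  ∀ x y : G, orderOf x = 47 → orderOf y = q → x * y = y * x → centralizer ({y} : Set G) ≤ normalizer (zpowers x : Set G)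

theorem not_dvd_of_star {G : Type u} [Group G] [Finite G] (B : BHyp G) {q : ℕ} (hq : q.Prime) (h46 : Nat.Coprime q 46)
    (hqd : q ∣ 306129918735099415756800) (hs : Star G q) {x : G} (hx : orderOf x = 47) :
    ¬ q ∣ Nat.card (centralizer ({x} : Set G)) := by
  intro hqc
  have : Fact q.Prime := ⟨hq⟩
  obtain ⟨D, ⟨d, hd⟩, h1, h2, h3, h4⟩ := B.tr
  obtain ⟨y, hy⟩ := exists_prime_orderOf_dvd_card' q hqc
  have hyx : x * (y : G) = y * x := (mem_centralizer_singleton_iff.1 y.2).symm
  have hyo : orderOf (y : G) = q := by rw [Subgroup.orderOf_coe, hy]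
  have cop : ∀ {S : Subgroup G} (_ : IsPGroup q S) {g : G} (_ : g ∈ S), Nat.Coprime (orderOf g) 46 := by
    intro S hS g hg
    obtain ⟨k, hk⟩ := hS ⟨g, hg⟩
    have h5 : g ^ q ^ k = 1 := congrArg Subtype.val hk
    exact Nat.Coprime.coprime_dvd_left (orderOf_dvd_of_pow_eq_one h5) (Nat.Coprime.pow_left k h46)
  -- a Sylow subgroup containing `y`
  have hyp : IsPGroup q (zpowers (y : G)) := IsPGroup.of_card (n := 1) (by rw [Nat.card_zpowers, hyo, pow_one])
  obtain ⟨S, hS⟩ := hyp.exists_le_sylow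
  have hyS : (y : G) ∈ (S : Subgroup G) := hS (mem_zpowers _)
  -- a central element of order `q`
  obtain ⟨z, hzS, hzc, hzo⟩ : ∃ z ∈ (S : Subgroup G), (∀ s ∈ (S : Subgroup G), z * s = s * z) ∧ orderOf z = q := by
    have hne : Nontrivial (S : Subgroup G) := ⟨⟨⟨y, hyS⟩, 1, fun h => by
      have h5 : (y : G) = 1 := congrArg Subtype.val h
      rw [h5, orderOf_one] at hyo
      exact hq.one_lt.ne hyo⟩⟩
    have h5 : Nontrivial (center (S : Subgroup G)) := S.2.center_nontrivial
    obtain ⟨k, hk⟩ := IsPGroup.iff_card.1 (S.2.to_subgroup (center (S : Subgroup G)))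
    have h6 : q ∣ Nat.card (center (S : Subgroup G)) := by
      rw [hk]
      rcases Nat.eq_zero_or_pos k with h7 | h7
      · rw [h7, pow_zero] at hk
        have := Finite.one_lt_card (α := center (S : Subgroup G))
        omega
      · exact dvd_pow_self q h7.ne'
    obtain ⟨z, hz⟩ := exists_prime_orderOf_dvd_card' q h6
    refine ⟨((z : (S : Subgroup G)) : G), (z : (S : Subgroup G)).2, fun s hs => ?_, ?_⟩
    · exact (congrArg Subtype.val (mem_center_iff.1 z.2 ⟨s, hs⟩)).symm
    · rw [Subgroup.orderOf_coe, Subgroup.orderOf_coe, hz]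
  have hzx : z * x = x * z := by
    refine comm_of_normalizer hx (hs x y hx hyo hyx ?_) (cop S.2 hzS)
    exact mem_centralizer_singleton_iff.2 (hzc y hyS)
  have hzN := hs x z hx hzo hzx.symm
  have hSx : ∀ s ∈ (S : Subgroup G), s * x = x * s := by
    intro s hs'
    refine comm_of_normalizer hx (hzN ?_) (cop S.2 hs')
    exact mem_centralizer_singleton_iff.2 (hzc s hs').symm
  -- an element of order `q` commuting with a transposition
  obtain ⟨w, hw⟩ := exists_prime_orderOf_dvd_card' q (show q ∣ Nat.card (centralizer ({d} : Set G)) by rwa [h4 d hd])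
  have hwo : orderOf (w : G) = q := by rw [Subgroup.orderOf_coe, hw]
  have hwp : IsPGroup q (zpowers (w : G)) := IsPGroup.of_card (n := 1) (by rw [Nat.card_zpowers, hwo, pow_one])
  obtain ⟨T, hT⟩ := hwp.exists_le_sylow
  obtain ⟨g, hg⟩ := MulAction.exists_smul_eq G T S
  have hgw : g * w * g⁻¹ ∈ (S : Subgroup G) := by
    rw [← hg]
    have h5 : g • ((w : G)) = g • (w : G) := rfl
    exact ⟨(w : G), hT (mem_zpowers _), rfl⟩
  have hgo : orderOf (g * w * g⁻¹) = q := by
    rw [← hwo]
    exact orderOf_injective (MulAut.conj g).toMonoidHom (MulAut.conj g).injective (w : G)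
  have hwN := hs x (g * w * g⁻¹) hx hgo (hSx _ hgw).symm
  refine no_tr B h1 h2 h3 hx (h1 d hd g) (hwN ?_)
  rw [mem_centralizer_singleton_iff]
  have h5 : d * (w : G) = w * d := (mem_centralizer_singleton_iff.1 w.2).symm
  calc g * d * g⁻¹ * (g * w * g⁻¹) = g * (d * w) * g⁻¹ := by group
    _ = g * (w * d) * g⁻¹ := by rw [h5]
    _ = g * w * g⁻¹ * (g * d * g⁻¹) := by group

theorem star_of_solIdx {G : Type u} [Group G] [Finite G] (B : BHyp G) {q : ℕ}
    (h : ∀ y : G, orderOf y = q → SolIdx 47 (centralizer ({y} : Set G))) : Star G q := by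
  intro x y hx hy hxy
  have hxm : x ∈ centralizer ({y} : Set G) := mem_centralizer_singleton_iff.2 hxy
  have h1 : 47 ∣ Nat.card (centralizer ({y} : Set G)) := by
    rw [← hx]
    exact Subgroup.orderOf_dvd_natCard _ hxm
  have h2 : ¬ 47 ^ 2 ∣ Nat.card (centralizer ({y} : Set G)) := fun h3 =>
    sq47 (B.card ▸ h3.trans (card_subgroup_dvd_card _))
  exact le_normalizer_of B hx hxm (normal_of_solIdx p47 h1 h2 (h y hy))

/-- the factorization of `|B|` -/
def lB : List (ℕ × ℕ) := [(2, 41), (3, 13), (5, 6), (7, 2), (11, 1), (13, 1), (17, 1), (19, 1), (23, 1), (31, 1), (47, 1)]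

theorem lB_valid : OrdDiv.valid lB NB = true := by decide +kernel

/-! ### Sylow arithmetic -/

theorem arith {G : Type u} [Group G] [Finite G] (hG : Nat.card G = NB) {x : G} (hx : orderOf x = 47) :
    ∃ e, e ∣ 46 ∧ Nat.card (normalizer (zpowers x : Set G)) = Nat.card (centralizer ({x} : Set G)) * e ∧
      Nat.card (centralizer ({x} : Set G)) * e ∣ NB ∧ NB / (Nat.card (centralizer ({x} : Set G)) * e) % 47 = 1 := by
  have : Fact (Nat.Prime 47) := ⟨p47⟩
  have hidx : ¬ 47 ∣ (zpowers x).index := by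
    intro h
    apply sq47
    rw [← hG, ← (zpowers x).card_mul_index, Nat.card_zpowers, hx, pow_two]
    exact Nat.mul_dvd_mul_left 47 h
  have hpg : IsPGroup 47 (zpowers x) := IsPGroup.of_card (n := 1) (by rw [Nat.card_zpowers, hx, pow_one])
  let P : Sylow 47 G := hpg.toSylow hidx
  have hPx : (P : Subgroup G) = zpowers x := rfl
  have h1 := card_sylow_modEq_one 47 G
  rw [Sylow.card_eq_index_normalizer P] at h1
  change (normalizer (zpowers x : Set G)).index % 47 = 1 at h1
  have hCx : centralizer ({x} : Set G) = centralizer (zpowers x : Set G) := by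
    ext g
    rw [mem_centralizer_singleton_iff, mem_centralizer_iff]
    constructor
    · rintro h _ ⟨k, rfl⟩
      exact ((show Commute g x from h).zpow_right k).symm
    · intro h
      exact (h x (mem_zpowers x)).symm
  have h2 := relIndex_centralizer_dvd p47 (zpowers x) (by rw [Nat.card_zpowers, hx])
  have hle : centralizer (zpowers x : Set G) ≤ normalizer (zpowers x : Set G) := centralizer_le_normalizer _
  refine ⟨_, h2, ?_, ?_, ?_⟩
  · rw [hCx]
    have h3 := Subgroup.relIndex_mul_relIndex ⊥ (centralizer (zpowers x : Set G)) (normalizer (zpowers x : Set G)) bot_le hle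
    rw [relIndex_bot_left, relIndex_bot_left] at h3
    exact h3.symm
  · rw [hCx]
    have h3 := Subgroup.relIndex_mul_relIndex ⊥ (centralizer (zpowers x : Set G)) (normalizer (zpowers x : Set G)) bot_le hle
    rw [relIndex_bot_left, relIndex_bot_left] at h3
    rw [h3, ← hG]
    exact card_subgroup_dvd_card _
  · rw [hCx]
    have h3 := Subgroup.relIndex_mul_relIndex ⊥ (centralizer (zpowers x : Set G)) (normalizer (zpowers x : Set G)) bot_le hle
    rw [relIndex_bot_left, relIndex_bot_left] at h3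
    rw [h3, ← hG, ← (normalizer (zpowers x : Set G)).card_mul_index, Nat.mul_div_cancel_left _ Nat.card_pos]
    exact h1

/-- the numbers -/
theorem numbers {c e : ℕ} (h47 : 47 ∣ c) (h2 : ¬ 2 ∣ c) (h3 : ¬ 3 ∣ c) (h5 : ¬ 5 ∣ c) (h7 : ¬ 7 ∣ c) (he : e ∣ 46)
    (hd : c * e ∣ NB) (h : NB / (c * e) % 47 = 1) :
    c = 47 ∨ e = 1 ∨ (c = 47 * 46189 ∧ e = 2) := by
  have hc : c ∣ NB := (Dvd.intro _ rfl).trans hd
  have e1 : NB = 2 ^ 41 * (3 ^ 13 * (5 ^ 6 * (7 ^ 2 * (47 * (11 * (13 * (17 * (19 * (23 * 31))))))))) := by norm_num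
  have hc1 : c ∣ 47 * (11 * (13 * (17 * (19 * (23 * 31))))) := by
    rw [e1] at hc
    have k2 : Nat.Coprime c (2 ^ 41) := (Nat.Coprime.pow_left 41 ((Nat.Prime.coprime_iff_not_dvd (by norm_num)).2 h2)).symm
    have k3 : Nat.Coprime c (3 ^ 13) := (Nat.Coprime.pow_left 13 ((Nat.Prime.coprime_iff_not_dvd (by norm_num)).2 h3)).symm
    have k5 : Nat.Coprime c (5 ^ 6) := (Nat.Coprime.pow_left 6 ((Nat.Prime.coprime_iff_not_dvd (by norm_num)).2 h5)).symm
    have k7 : Nat.Coprime c (7 ^ 2) := (Nat.Coprime.pow_left 2 ((Nat.Prime.coprime_iff_not_dvd (by norm_num)).2 h7)).symm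
    exact k7.dvd_of_dvd_mul_left (k5.dvd_of_dvd_mul_left (k3.dvd_of_dvd_mul_left (k2.dvd_of_dvd_mul_left hc)))
  obtain ⟨m, rfl⟩ := h47
  have hm := Nat.dvd_of_mul_dvd_mul_left (by norm_num) hc1
  obtain ⟨a, m1, ha, hm1, rfl⟩ := Nat.dvd_mul.1 hm
  obtain ⟨b, m2, hb, hm2, rfl⟩ := Nat.dvd_mul.1 hm1
  obtain ⟨c, m3, hc', hm3, rfl⟩ := Nat.dvd_mul.1 hm2
  obtain ⟨d, m4, hd', hm4, rfl⟩ := Nat.dvd_mul.1 hm3
  obtain ⟨f, g, hf, hg, rfl⟩ := Nat.dvd_mul.1 hm4
  have ka : a ∈ ([1, 11] : List ℕ) := by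
    rcases (Nat.dvd_prime (by norm_num)).1 ha with rfl | rfl <;> simp
  have kb : b ∈ ([1, 13] : List ℕ) := by
    rcases (Nat.dvd_prime (by norm_num)).1 hb with rfl | rfl <;> simp
  have kc : c ∈ ([1, 17] : List ℕ) := by
    rcases (Nat.dvd_prime (by norm_num)).1 hc' with rfl | rfl <;> simp
  have kd : d ∈ ([1, 19] : List ℕ) := by
    rcases (Nat.dvd_prime (by norm_num)).1 hd' with rfl | rfl <;> simp
  have kf : f ∈ ([1, 23] : List ℕ) := by
    rcases (Nat.dvd_prime (by norm_num)).1 hf with rfl | rfl <;> simp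
  have kg : g ∈ ([1, 31] : List ℕ) := by
    rcases (Nat.dvd_prime (by norm_num)).1 hg with rfl | rfl <;> simp
  have ke : e ∈ ([1, 2, 23, 46] : List ℕ) := by
    have h1 : e ≤ 46 := Nat.le_of_dvd (by norm_num) he
    have h2 : ∀ f < 47, f ∣ 46 → f ∈ ([1, 2, 23, 46] : List ℕ) := by decide +kernel
    exact h2 e (by omega) he
  have key : ∀ a ∈ ([1, 11] : List ℕ), ∀ b ∈ ([1, 13] : List ℕ), ∀ c ∈ ([1, 17] : List ℕ), ∀ d ∈ ([1, 19] : List ℕ),
      ∀ f ∈ ([1, 23] : List ℕ), ∀ g ∈ ([1, 31] : List ℕ), ∀ e ∈ ([1, 2, 23, 46] : List ℕ),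
      NB % (47 * (a * (b * (c * (d * (f * g))))) * e) = 0 →
      NB / (47 * (a * (b * (c * (d * (f * g))))) * e) % 47 = 1 →
      (47 * (a * (b * (c * (d * (f * g))))) = 47 ∨ e = 1 ∨ (47 * (a * (b * (c * (d * (f * g))))) = 47 * 46189 ∧ e = 2)) := by
    decide +kernel
  exact key a ka b kb c kc d kd f kf g kg e ke (Nat.mod_eq_zero_of_dvd hd) h

/-- Burnside's transfer theorem -/
theorem not_eq_centralizer {G : Type u} [Group G] [Finite G] [IsSimpleGroup G] (hG : Nat.card G = NB) {x : G}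
    (hx : orderOf x = 47)
    (h : Nat.card (normalizer (zpowers x : Set G)) = Nat.card (centralizer ({x} : Set G))) : False := by
  have : Fact (Nat.Prime 47) := ⟨p47⟩
  have hidx : ¬ 47 ∣ (zpowers x).index := by
    intro h
    apply sq47
    rw [← hG, ← (zpowers x).card_mul_index, Nat.card_zpowers, hx, pow_two]
    exact Nat.mul_dvd_mul_left 47 h
  have hpg : IsPGroup 47 (zpowers x) := IsPGroup.of_card (n := 1) (by rw [Nat.card_zpowers, hx, pow_one])
  let P : Sylow 47 G := hpg.toSylow hidx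
  have hCx : centralizer ({x} : Set G) = centralizer (zpowers x : Set G) := by
    ext g
    rw [mem_centralizer_singleton_iff, mem_centralizer_iff]
    constructor
    · rintro h _ ⟨k, rfl⟩
      exact ((show Commute g x from h).zpow_right k).symm
    · intro h
      exact (h x (mem_zpowers x)).symm
  have hle : centralizer (zpowers x : Set G) ≤ normalizer (zpowers x : Set G) := centralizer_le_normalizer _
  have heq : centralizer (zpowers x : Set G) = normalizer (zpowers x : Set G) :=
    eq_of_le_of_card_ge hle (by rw [h, hCx])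
  have hPn : normalizer ((P : Subgroup G) : Set G) ≤ centralizer ((P : Subgroup G) : Set G) := heq.ge
  have hcomp := MonoidHom.ker_transferSylow_isComplement' P hPn
  have h1 := hcomp.card_mul_card
  have hcP : Nat.card (P : Subgroup G) = 47 := by
    change Nat.card (zpowers x) = 47
    rw [Nat.card_zpowers, hx]
  rcases (inferInstance : (MonoidHom.transferSylow P hPn).ker.Normal).eq_bot_or_eq_top with h2 | h2
  · rw [h2, card_bot, hcP, hG] at h1
    norm_num at h1
  · rw [h2, card_top, hcP, hG] at h1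
    norm_num at h1

theorem chkB : chkOne lB NB 47 51888 = true := by decide +kernel

theorem dvd_of_comm {G : Type u} [Group G] {x y : G} (h : x * y = y * x) :
    orderOf x ∣ Nat.card (centralizer ({y} : Set G)) :=
  Subgroup.orderOf_dvd_natCard _ (mem_centralizer_singleton_iff.2 h)

theorem centralizer_ne_top {G : Type u} [Group G] [Finite G] [IsSimpleGroup G] (hG : Nat.card G = NB) {y : G}
    (hy : y ≠ 1) : centralizer ({y} : Set G) ≠ ⊤ := by
  intro h
  have h1 : y ∈ center G := mem_center_iff.2 fun g => by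
    have h2 : g ∈ centralizer ({y} : Set G) := by rw [h]; trivial
    exact mem_centralizer_singleton_iff.1 h2
  rcases (inferInstance : (center G).Normal).eq_bot_or_eq_top with h2 | h2
  · rw [h2, mem_bot] at h1
    exact hy h1
  · have h3 : ∀ a b : G, a * b = b * a := fun a b => by
      have : b ∈ center G := by rw [h2]; trivial
      exact mem_center_iff.1 this a
    let : CommGroup G := { (inferInstance : Group G) with mul_comm := h3 }
    have h4 : IsSimpleGroup G := inferInstance
    have h5 : (Nat.card G).Prime := IsSimpleGroup.prime_card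
    rw [hG] at h5
    have h6 : (2 : ℕ) ∣ NB := by norm_num
    have h7 := (Nat.prime_dvd_prime_iff_eq Nat.prime_two h5).1 h6
    norm_num at h7

theorem idx_cases {i : ℕ} (h : i ∣ 47 * (47 - 1) * (47 + 1)) (h1 : i % 47 = 1) : ¬ 23 ∣ i := by
  have hco : Nat.Coprime i 47 := by
    rw [Nat.coprime_comm, Nat.Prime.coprime_iff_not_dvd p47]
    intro h2
    rw [Nat.mod_eq_zero_of_dvd h2] at h1
    norm_num at h1
  have h2 : i ∣ 2208 := by
    have e1 : 47 * (47 - 1) * (47 + 1) = 47 * 2208 := by norm_num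
    rw [e1] at h
    exact hco.dvd_of_dvd_mul_left h
  have h3 : i ≤ 2208 := Nat.le_of_dvd (by norm_num) h2
  have key : ∀ i < 2209, i ∣ 2208 → i % 47 = 1 → ¬ 23 ∣ i := by decide +kernel
  exact key i (by omega) h2 h1

/-- the centralizer of an element of order 19, in the remaining case -/
theorem star_nineteen {G : Type u} [Group G] [Finite G] (B : BHyp G) (hK : AllKnown.{u}) {x y : G} (hx : orderOf x = 47)
    (hy : orderOf y = 19) (hxy : x * y = y * x)
    (hN : Nat.card (normalizer (zpowers x : Set G)) = 47 * 46189 * 2) :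
    centralizer ({y} : Set G) ≤ normalizer (zpowers x : Set G) := by
  have : IsSimpleGroup G := B.simple
  have : Fact (Nat.Prime 47) := ⟨p47⟩
  set X := centralizer ({y} : Set G) with hXdef
  have hxX : x ∈ X := mem_centralizer_singleton_iff.2 hxy
  have hXtop : X ≠ ⊤ := centralizer_ne_top B.card (by
    rintro rfl
    rw [orderOf_one] at hy
    norm_num at hy)
  have hXN : Nat.card X ∣ NB := B.card ▸ card_subgroup_dvd_card X
  have hd : 47 ∣ Nat.card X := hx ▸ Subgroup.orderOf_dvd_natCard _ hxX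
  have h2 : ¬ 47 ^ 2 ∣ Nat.card X := fun h => sq47 (h.trans hXN)
  obtain ⟨K, hKn, h47K, hidx⟩ := exists_normal hK hXtop B.card lB_valid p47 hd sq47 chkB
    (dvd_mod_one (by norm_num) 1104 24 (by norm_num) (by norm_num) (by norm_num) (by decide))
  set x' : X := ⟨x, hxX⟩ with hx'
  have hxo : orderOf x' = 47 := by rw [hx', Subgroup.orderOf_mk, hx]
  have hcK : ∀ a ∈ K, x' * a = a * x' := by
    intro a ha
    have h1 := B.triv (K := K.map X.subtype) hx ?_ ?_ (a : G) ⟨a, ha, rfl⟩
    · exact Subtype.ext h1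
    · have h2 : X ≤ normalizer (K.map X.subtype : Set G) := by
        intro g hg
        rw [mem_normalizer_iff]
        intro t
        constructor
        · rintro ⟨b, hb, rfl⟩
          exact ⟨(⟨g, hg⟩ * b * ⟨g, hg⟩⁻¹ :), hKn.conj_mem b hb _, rfl⟩
        · rintro ⟨b, hb, hbt⟩
          refine ⟨(⟨g, hg⟩⁻¹ * b * ⟨g, hg⟩ :), ?_, ?_⟩
          · have h3 := hKn.conj_mem b hb (⟨g, hg⟩⁻¹)
            rwa [inv_inv] at h3
          · change g⁻¹ * (b : G) * g = t
            rw [show (b : G) = g * t * g⁻¹ from hbt]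
            group
      exact h2 hxX
    · rwa [card_map_of_injective X.subtype_injective]
  have hKle : K ≤ normalizer (zpowers x' : Set X) := by
    intro a ha
    have h3 : Commute a x' := (hcK a ha).symm
    rw [mem_normalizer_iff]
    intro t
    constructor
    · rintro ⟨k, rfl⟩
      refine ⟨k, ?_⟩
      change x' ^ k = a * x' ^ k * a⁻¹
      rw [(h3.zpow_right k).eq, mul_inv_cancel_right]
    · rintro ⟨k, hk⟩
      refine ⟨k, ?_⟩
      have hk' : x' ^ k = a * t * a⁻¹ := hk
      have h4 : t = a⁻¹ * (a * t * a⁻¹) * a := by group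
      change x' ^ k = t
      rw [h4, ← hk', (h3.inv_left.zpow_right k).eq, inv_mul_cancel_right]
  have hsyl : (normalizer (zpowers x' : Set X)).index % 47 = 1 := by
    have hi : ¬ 47 ∣ (zpowers x').index := by
      intro h
      apply h2
      rw [← (zpowers x').card_mul_index, Nat.card_zpowers, hxo, pow_two]
      exact Nat.mul_dvd_mul_left 47 h
    have hpg : IsPGroup 47 (zpowers x') := IsPGroup.of_card (n := 1) (by rw [Nat.card_zpowers, hxo, pow_one])
    let P : Sylow 47 X := hpg.toSylow hi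
    have h1 := card_sylow_modEq_one 47 X
    rw [Sylow.card_eq_index_normalizer P] at h1
    exact h1
  have h23i := idx_cases ((Subgroup.index_dvd_of_le hKle).trans hidx) hsyl
  have h23 : ¬ 23 ∣ Nat.card X := by
    rw [← (normalizer (zpowers x' : Set X)).card_mul_index]
    intro h
    rcases (show Nat.Prime 23 by norm_num).dvd_mul.1 h with h | h
    · have h3 : Nat.card (normalizer (zpowers x' : Set X)) ∣ Nat.card (normalizer (zpowers x : Set G)) := by
        rw [← card_map_of_injective X.subtype_injective]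
        refine card_dvd_of_le ?_
        rintro _ ⟨g, hg, rfl⟩
        have hconj : ∀ g : X, g ∈ normalizer (zpowers x' : Set X) → ∀ t ∈ zpowers x, (g : G) * t * (g : G)⁻¹ ∈ zpowers x := by
          rintro g hg _ ⟨k, rfl⟩
          obtain ⟨j, hj⟩ := (mem_normalizer_iff.1 hg (x' ^ k)).1 ⟨k, rfl⟩
          exact ⟨j, congrArg Subtype.val hj⟩
        change (g : G) ∈ _
        rw [mem_normalizer_iff]
        intro t
        constructor
        · exact hconj g hg t
        · intro ht
          have h4 := hconj g⁻¹ (inv_mem hg) _ ht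
          have h5 : ((g⁻¹ : X) : G) * ((g : G) * t * (g : G)⁻¹) * ((g⁻¹ : X) : G)⁻¹ = t := by
            rw [InvMemClass.coe_inv]
            group
          rwa [h5] at h4
      rw [hN] at h3
      have h4 := h.trans h3
      norm_num at h4
    · exact h23i h
  refine le_normalizer_of B hx hxX (normal_of_card p47 hd h2 ?_)
  intro S _ _ hs hna hSX hrS
  have hne : Nat.card S ≠ NB := by
    intro h
    apply hXtop
    apply Subgroup.eq_top_of_card_eq
    apply Nat.dvd_antisymm (Subgroup.card_subgroup_dvd_card X)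
    rw [B.card, ← h]
    exact hSX
  have h3 := card_of_chk hK hna lB_valid (hSX.trans hXN) hrS hne chkB
  apply h23
  refine dvd_trans ?_ hSX
  rw [h3]
  norm_num

/-- **The elements of order 47 are self-centralizing.** -/
theorem BHyp.sc {G : Type u} [Group G] [Finite G] (B : BHyp G) (hK : AllKnown.{u}) (x : G) (hx : orderOf x = 47) :
    Nat.card (centralizer ({x} : Set G)) = 47 := by
  have : IsSimpleGroup G := B.simple
  have key : ∀ x : G, orderOf x = 47 → Nat.card (centralizer ({x} : Set G)) = 47 ∨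
      (Nat.card (centralizer ({x} : Set G)) = 47 * 46189 ∧
        Nat.card (normalizer (zpowers x : Set G)) = 47 * 46189 * 2) := by
    intro x hx
    obtain ⟨e, he, hN, hd, h1⟩ := arith B.card hx
    have c47 : 47 ∣ Nat.card (centralizer ({x} : Set G)) := by
      have h2 := dvd_of_comm (x := x) (y := x) rfl
      rwa [hx] at h2
    have nd : ∀ q : ℕ, q.Prime → (∀ y : G, orderOf y = q → ¬ 47 ∣ Nat.card (centralizer ({y} : Set G))) →
        ¬ q ∣ Nat.card (centralizer ({x} : Set G)) := by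
      intro q hq h2 h3
      have : Fact q.Prime := ⟨hq⟩
      obtain ⟨y, hy⟩ := exists_prime_orderOf_dvd_card' q h3
      refine h2 (y : G) (by rw [Subgroup.orderOf_coe, hy]) ?_
      have h4 := dvd_of_comm (x := x) (y := (y : G)) (mem_centralizer_singleton_iff.1 y.2).symm
      rwa [hx] at h4
    have c2 := nd 2 Nat.prime_two B.inv
    have c7 := nd 7 (by norm_num) B.seven
    have c3 := not_dvd_of_star B Nat.prime_three (by norm_num) (by norm_num) (star_of_solIdx B B.three) hx
    have c5 := not_dvd_of_star B Nat.prime_five (by norm_num) (by norm_num) (star_of_solIdx B B.five) hx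
    rcases numbers c47 c2 c3 c5 c7 he hd h1 with h2 | h2 | ⟨h2, h3⟩
    · exact Or.inl h2
    · rw [h2, mul_one] at hN
      exact (not_eq_centralizer B.card hx hN).elim
    · right
      rw [h2, h3] at hN
      exact ⟨h2, hN⟩
  rcases key x hx with h | ⟨h, -⟩
  · exact h
  · exfalso
    refine not_dvd_of_star B (q := 19) (by norm_num) (by norm_num) (by norm_num) ?_ hx (by rw [h]; norm_num)
    intro x' y hx' hy hxy
    rcases key x' hx' with h1 | ⟨-, h1⟩
    · exfalso
      have h2 := dvd_of_comm (x := y) (y := x') hxy.symm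
      rw [hy, h1] at h2
      norm_num at h2
    · exact star_nineteen B hK hx' hy hxy h1

end Cfsg.Agent.H291.SCAbs
end

-- part: H291/SCBaby
section
/-!
# Elements of order 47 of the Baby Monster (helper291)

* `exists_transp` : the transpositions of `Spor.BabyMonster`;
* `solIdx_three`, `solIdx_five` : centralizers of elements of orders 3 and 5;
* `bHyp`, `sc` : **the elements of order 47 are self-centralizing** (from the list of the simple groups).
-/

set_option autoImplicit false
set_option maxRecDepth 100000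

namespace Cfsg.Agent.H291.SCBaby

section model

open Cfsg.Agent.BabyM.Model

variable {W : Type} [AddCommGroup W] [Module ℚ W] {M : BData W} {K₀ : Type} [Group K₀]

/-- **The 4-transposition class of the model** (as `final`, `S0466`, for `M.G`). -/
theorem final_model (A : BAll M K₀) (B : BTrans M) : ∃ D : Set M.G,
    (∃ d ∈ D, D = conjugatesOf d) ∧ (∀ d ∈ D, orderOf d = 2) ∧
    (∀ d ∈ D, ∀ e ∈ D, orderOf (d * e) ≤ 4) ∧
    ∀ d ∈ D, Nat.card (Subgroup.centralizer ({d} : Set M.G)) = 306129918735099415756800 := by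
  have hfin := A.finite_G
  set t : M.G := ⟨M.t₀, A.C_le_G A.t₀_C⟩ with ht
  refine ⟨conjugatesOf t, ⟨t, mem_conjugatesOf_self, rfl⟩, ?_, ?_, ?_⟩
  · intro d hd
    obtain ⟨g, hg⟩ := isConj_iff.1 hd
    rw [← hg]
    have h1 : orderOf (g * t * g⁻¹) = orderOf t := by
      exact orderOf_injective (MulAut.conj g).toMonoidHom (MulAut.conj g).injective t
    rw [h1]
    refine orderOf_eq_prime (Subtype.ext ?_) (fun h => A.rep.t₀_ne (congrArg Subtype.val h))
    change M.t₀ ^ 2 = 1
    rw [pow_two, A.rep.t₀_sq]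
  · intro d hd e he
    obtain ⟨g, rfl⟩ := isConj_iff.1 hd
    obtain ⟨k, rfl⟩ := isConj_iff.1 he
    -- `c = g⁻¹ k d₀ = h d_j`
    obtain ⟨j, h, hh, hc⟩ : ((g⁻¹ * k : M.G) : W ≃ₗ[ℚ] W) M.d₀ ∈ M.D :=
      ((A.G_le (g⁻¹ * k).2).2 _).2 A.d₀_mem
    obtain ⟨l, hl, hld, hord⟩ := B.order_le j
    obtain ⟨n, hn0, hn4, hpow⟩ := hord h⁻¹ (M.C.inv_mem hh)
    have h1 := A.conj_t h l ((g⁻¹ * k : M.G) : W ≃ₗ[ℚ] W) (A.C_le hh) (A.G_le hl)
      (A.G_le (g⁻¹ * k).2) (Or.inl (by rw [hld, hc]))
    refine (orderOf_le_of_pow_eq_one hn0 ?_).trans hn4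
    apply Subtype.ext
    have e2 : ((g * t * g⁻¹ * (k * t * k⁻¹) : M.G) : W ≃ₗ[ℚ] W) =
        ((g : W ≃ₗ[ℚ] W) * h) * ((h⁻¹ * M.t₀ * h⁻¹⁻¹) * (l * M.t₀ * l⁻¹)) *
          ((g : W ≃ₗ[ℚ] W) * h)⁻¹ := by
      have e3 : ((g * t * g⁻¹ * (k * t * k⁻¹) : M.G) : W ≃ₗ[ℚ] W) =
          (g : W ≃ₗ[ℚ] W) * (M.t₀ * (((g⁻¹ * k : M.G) : W ≃ₗ[ℚ] W) * M.t₀ *
            ((g⁻¹ * k : M.G) : W ≃ₗ[ℚ] W)⁻¹)) * (g : W ≃ₗ[ℚ] W)⁻¹ := by
        push_cast
        rw [ht]
        group
      rw [e3, ← h1]
      group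
    change ((g * t * g⁻¹ * (k * t * k⁻¹) : M.G) : W ≃ₗ[ℚ] W) ^ n = 1
    rw [e2, conj_pow, hpow, mul_one, mul_inv_cancel]
  · intro d hd
    obtain ⟨g, hg⟩ := isConj_iff.1 hd
    rw [← A.card_cent B, ← hg]
    refine Nat.card_congr ⟨fun x => ⟨g⁻¹ * x * g, ?_⟩, fun x => ⟨g * x * g⁻¹, ?_⟩, ?_, ?_⟩
    · have hx := Cfsg.Agent.MonsterX.SimpleCrit.mem_cent.1 x.2
      rw [Cfsg.Agent.MonsterX.SimpleCrit.mem_cent]
      change g⁻¹ * (x : M.G) * g * t = t * (g⁻¹ * (x : M.G) * g)
      have e1 : g⁻¹ * (x : M.G) * g * t = g⁻¹ * ((x : M.G) * (g * t * g⁻¹)) * g := by group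
      rw [e1, hx]
      group
    · have hx : (x : M.G) * t = t * x := Cfsg.Agent.MonsterX.SimpleCrit.mem_cent.1 x.2
      rw [Cfsg.Agent.MonsterX.SimpleCrit.mem_cent]
      have e1 : g * (x : M.G) * g⁻¹ * (g * t * g⁻¹) = g * ((x : M.G) * t) * g⁻¹ := by group
      rw [e1, hx]
      group
    · intro x
      apply Subtype.ext
      change g * (g⁻¹ * (x : M.G) * g) * g⁻¹ = x
      group
    · intro x
      apply Subtype.ext
      change g⁻¹ * (g * (x : M.G) * g⁻¹) * g = x
      group

end model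

open Cfsg Cfsg.Agent.H291.SolNorm Cfsg.Agent.H291.SCAbs Cfsg.Agent.H537.Cop
open Cfsg.Agent.MonsterX Cfsg.Agent.MonsterX.MainBasic Cfsg.Agent.MonsterN Cfsg.Agent.MonsterP
open Cfsg.Agent.MonsterU
open Subgroup (centralizer mem_centralizer_singleton_iff center)

/-- the transpositions -/
theorem exists_transp : ∃ D : Set Spor.BabyMonster, D.Nonempty ∧ (∀ d ∈ D, ∀ g : Spor.BabyMonster, g * d * g⁻¹ ∈ D) ∧
    (∀ d ∈ D, orderOf d = 2) ∧ (∀ d ∈ D, ∀ e ∈ D, orderOf (d * e) ≤ 4) ∧
    ∀ d ∈ D, Nat.card (centralizer ({d} : Set Spor.BabyMonster)) = 306129918735099415756800 := by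
  have hs : IsSimpleGroup Spor.BabyMonster := Cfsg.Agent.S1704.result.1
  obtain ⟨e⟩ := Cfsg.Agent.KFacts.Baby.Sheet.exists_iso
  obtain ⟨D, ⟨d0, hd0, hD⟩, h1, h2, h3⟩ :=
    final_model Cfsg.Agent.BabyM.Instance.all Cfsg.Agent.BabyM.Instance.tr
  refine ⟨{x | e x ∈ D}, ⟨e.symm d0, ?_⟩, ?_, ?_, ?_, ?_⟩
  · show e (e.symm d0) ∈ D
    rwa [e.apply_symm_apply]
  · intro d hd g
    show e (g * d * g⁻¹) ∈ D
    rw [map_mul, map_mul, map_inv]
    have h4 : e d ∈ D := hd
    rw [hD] at h4 ⊢
    exact IsConj.trans h4 (isConj_iff.2 ⟨e g, rfl⟩)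
  · intro d hd
    rw [← h1 _ hd, MulEquiv.orderOf_eq]
  · intro d hd d' hd'
    rw [← MulEquiv.orderOf_eq e, map_mul]
    exact h2 _ hd _ hd'
  · intro d hd
    rw [← h3 _ hd]
    exact card_centralizer_equiv e d

/-- from the Monster to the Baby Monster -/
theorem solIdx_of {r p : ℕ} (hp : p.Prime) (hp2 : p ≠ 2)
    (h : ∀ x : ↥InstData.M.G, orderOf x = p → SolIdx r (centralizer ({x} : Set ↥InstData.M.G)))
    {y : Spor.BabyMonster} (hy : orderOf y = p) : SolIdx r (centralizer ({y} : Set Spor.BabyMonster)) := by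
  have hfin : Finite ↥InstData.M.G := G_finite LitFin.all.hO
  obtain ⟨⟨h1, -, ⟨e⟩⟩, -⟩ := ModelB.fieldsKS LitFin.all KDone.lnk KDone.lft (NodesGrp.prel LitFin.H)
    (NodesNe.ne LitFin.H) LitFin.conj_ten Cfsg.Agent.S1704.result KDone.lnk.x₀_mem
  exact SolIdx.cent_quot h1 e hp hp2 (fun x hx _ => h x hx) hy

theorem solIdx_three (y : Spor.BabyMonster) (hy : orderOf y = 3) :
    SolIdx 47 (centralizer ({y} : Set Spor.BabyMonster)) :=
  solIdx_of Nat.prime_three (by norm_num) (fun _ hx => SCMon.three (by norm_num) (by norm_num) (by norm_num)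
    (by norm_num) (by norm_num) hx) hy

theorem solIdx_five (y : Spor.BabyMonster) (hy : orderOf y = 5) :
    SolIdx 47 (centralizer ({y} : Set Spor.BabyMonster)) :=
  solIdx_of Nat.prime_five (by norm_num) (fun _ hx => SCMon.five (by norm_num) (by norm_num) (by norm_num)
    (by norm_num) hx) hy

theorem inv (t : Spor.BabyMonster) (ht : orderOf t = 2) :
    ¬ 47 ∣ Nat.card (centralizer ({t} : Set Spor.BabyMonster)) := by
  intro h
  rcases Cfsg.Agent.H713.Spor.B.dvd_cases (by norm_num) (by norm_num) ht h with h1 | h1 <;> norm_num at h1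

theorem seven (y : Spor.BabyMonster) (hy : orderOf y = 7) :
    ¬ 47 ∣ Nat.card (centralizer ({y} : Set Spor.BabyMonster)) := by
  intro h
  have hfin : Finite Spor.BabyMonster := CTwoTab.BInst.finite_B
  have : Fact (Nat.Prime 47) := ⟨by norm_num⟩
  obtain ⟨x, hx⟩ := exists_prime_orderOf_dvd_card' 47 h
  exact Cfsg.Agent.H478.SporBaby.ncomm (x := (x : Spor.BabyMonster)) (y := y) (by rw [Subgroup.orderOf_coe, hx]) hy
    (mem_centralizer_singleton_iff.1 x.2)

theorem bHyp : BHyp Spor.BabyMonster where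
  simple := Cfsg.Agent.S1704.result.1
  card := Cfsg.Agent.S1704.result.2
  inv := inv
  seven := seven
  rank := Cfsg.Agent.H332.BabyUpper.baby_le
  three := solIdx_three
  five := solIdx_five
  tr := exists_transp

/-- **The elements of order 47 of the Baby Monster are self-centralizing.** -/
theorem sc (hK : Cfsg.Agent.H995.CopEngine.AllKnown.{0}) : SC 47 Spor.BabyMonster := by
  have hfin : Finite Spor.BabyMonster := CTwoTab.BInst.finite_B
  exact fun x hx => bHyp.sc hK x hx

end Cfsg.Agent.H291.SCBaby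
end
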