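import Cfsg.Agent.H995.CopEngine
import Cfsg.Agent.H995.CopCoprime
import Cfsg.Agent.LThree.Red
import Cfsg.Agent.LThreeMB.ZStar
import Cfsg.Agent.H568.OddPair
import Cfsg.Agent.BpRankZero.Seven
import Cfsg.Agent.S0205
import Cfsg.Agent.LThreeB.Asm
import Cfsg.Agent.LThreeMB.CoOneFin
import Cfsg.Agent.LThreeMB.Row
import Cfsg.Agent.LThreeM.FiRow_mg
import Cfsg.Agent.CpAutBFive.Final
import Cfsg.Agent.H603.SporElim
import Cfsg.Agent.FastGrp
import Cfsg.Agent.Prune
set_option linter.all false
prune_inst 0x7f00000000000000000000000000000000000000000000000000000000000000000000000000000000000000000000000000000000000000000000000000000000000000000000000000000000000000003fffffffffffffffffffffffffffbeffbdffffffff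
open scoped Cfsg.Agent.FastGrp

-- part: H291/SolIdx
section
/-!
# A Sylow subgroup of prime order: solvable normal subgroups of index prime to `r` (helper291)

* `SolIdx r X` : `X` has a solvable normal subgroup of index prime to `r`; subgroups, homomorphic images;
* `dich` : `r` divides `|X|` exactly once: there is a normal `r'`-subgroup `K` such that `P K` is normal for the Sylow
  `r`-subgroups `P`, or `X / K` has a normal nonabelian simple subgroup of order divisible by `r`;
* `normal_of_solIdx`, `normal_of_card`: the first case holds if `SolIdx r X`, or if no nonabelian simple group of order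
  dividing `|X|` has order divisible by `r`.
-/

set_option autoImplicit false

namespace Cfsg.Agent.H291.SolNorm

open Subgroup Cfsg.Agent.H995.CopEngine

universe u v

/-- `X` has a solvable normal subgroup of index prime to `r`. -/
def SolIdx (r : ℕ) (X : Type*) [Group X] : Prop :=
  ∃ N : Subgroup X, N.Normal ∧ Group.IsSolvable N ∧ ¬ r ∣ N.index

theorem SolIdx.map {r : ℕ} {X : Type*} [Group X] {Y : Type*} [Group Y] (h : SolIdx r X) (f : X →* Y)
    (hf : Function.Surjective f) : SolIdx r Y := by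
  obtain ⟨N, h1, h2, h3⟩ := h
  refine ⟨N.map f, h1.map f hf, ?_, fun h4 => h3 (h4.trans (N.index_map_dvd hf))⟩
  exact Group.isSolvable_of_surjective (f := f.subgroupMap N) (f.subgroupMap_surjective N)

theorem SolIdx.comap {r : ℕ} {X : Type*} [Group X] {Y : Type*} [Group Y] (h : SolIdx r X) (f : Y →* X)
    (hf : Function.Injective f) : SolIdx r Y := by
  obtain ⟨N, h1, h2, h3⟩ := h
  refine ⟨N.comap f, h1.comap f, ?_, fun h4 => h3 (h4.trans ?_)⟩
  · exact Group.isSolvable_of_isSolvable_injective (f := (f.subgroupComap N)) (by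
      intro a b hab
      apply Subtype.ext
      apply hf
      exact congrArg Subtype.val hab)
  · rw [index_comap]
    exact relIndex_dvd_index_of_normal N f.range

theorem SolIdx.of_not_dvd {r : ℕ} {X : Type*} [Group X] (h : ¬ r ∣ Nat.card X) : SolIdx r X :=
  ⟨⊥, inferInstance, Group.isSolvable_of_comm fun a b => Subsingleton.elim _ _, by rwa [index_bot]⟩

theorem SolIdx.of_solvable {r : ℕ} (hr : r ≠ 1) {X : Type*} [Group X] (h : Group.IsSolvable X) : SolIdx r X :=
  ⟨⊤, inferInstance, Group.isSolvable_of_surjective (f := (topEquiv (G := X)).symm.toMonoidHom) (topEquiv (G := X)).symm.surjective,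
    by rw [index_top]; exact fun h => hr (Nat.dvd_one.1 h)⟩

theorem dich {X : Type u} [Group X] [Finite X] {r : ℕ} (hr : r.Prime) (hd : r ∣ Nat.card X)
    (h2 : ¬ r ^ 2 ∣ Nat.card X) : ∃ (K : Subgroup X) (_ : K.Normal), ¬ r ∣ Nat.card K ∧
      ((∀ P : Sylow r X, ((P : Subgroup X) ⊔ K).Normal) ∨
        ∃ S : Subgroup (X ⧸ K), IsSimpleGroup S ∧ (¬ ∀ a b : S, a * b = b * a) ∧ r ∣ Nat.card S ∧
          ∀ M : Subgroup (X ⧸ K), M.Normal → ¬ r ∣ M.index → S ≤ M) := by
  have : Fact r.Prime := ⟨hr⟩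
  obtain ⟨K, hK, hrK, hmax⟩ := exists_core X hr
  refine ⟨K, hK, hrK, ?_⟩
  have hc := Subgroup.card_eq_card_quotient_mul_card_subgroup K
  have hqd : Nat.card (X ⧸ K) ∣ Nat.card X := Dvd.intro _ hc.symm
  have hdq : r ∣ Nat.card (X ⧸ K) := by
    rw [hc] at hd
    exact (hr.dvd_mul.1 hd).resolve_right hrK
  have h2q : ¬ r ^ 2 ∣ Nat.card (X ⧸ K) := fun h => h2 (h.trans hqd)
  have hO : ∀ A : Subgroup (X ⧸ K), A.Normal → ¬ r ∣ Nat.card A → A = ⊥ := by
    intro A hA hrA
    have h3 : (A.comap (QuotientGroup.mk' K)).Normal := inferInstance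
    have h4 : Nat.card (A.comap (QuotientGroup.mk' K)) = Nat.card A * Nat.card K := by
      have h5 := (A.comap (QuotientGroup.mk' K)).card_mul_index
      rw [Subgroup.index_comap_of_surjective _ (QuotientGroup.mk'_surjective K), hc, ← A.card_mul_index, mul_right_comm] at h5
      exact Nat.eq_of_mul_eq_mul_right (Nat.pos_of_ne_zero A.index_ne_zero_of_finite) h5
    have h5 := hmax _ h3 (by
      rw [h4]
      intro h
      exact (hr.dvd_mul.1 h).elim hrA hrK)
    rw [eq_bot_iff]
    intro a ha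
    obtain ⟨g, rfl⟩ := QuotientGroup.mk'_surjective K a
    rw [Subgroup.mem_bot]
    exact (QuotientGroup.eq_one_iff g).2 (h5 ha)
  obtain ⟨P0⟩ : Nonempty (Sylow r (X ⧸ K)) := inferInstance
  have hs := simple_closure hr hdq h2q hO P0
  have hPc := sylow_card hr hdq h2q P0
  set S := Subgroup.normalClosure ((P0 : Subgroup (X ⧸ K)) : Set (X ⧸ K)) with hS
  have hPS : (P0 : Subgroup (X ⧸ K)) ≤ S := Subgroup.le_normalClosure
  have hrS : r ∣ Nat.card S := hPc ▸ Subgroup.card_dvd_of_le hPS
  by_cases hab : ∀ a b : S, a * b = b * a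
  · left
    -- `S` is abelian, so `P0 = S`
    have hcS : Nat.card S = r := by
      let : CommGroup S := { (inferInstance : Group S) with mul_comm := hab }
      have hs' : IsSimpleGroup S := hs
      have h3 : (Nat.card S).Prime := IsSimpleGroup.prime_card
      exact ((Nat.prime_dvd_prime_iff_eq hr h3).1 hrS).symm
    have hPeq : (P0 : Subgroup (X ⧸ K)) = S := Subgroup.eq_of_le_of_card_ge hPS (by rw [hcS, hPc])
    have hPn : (P0 : Subgroup (X ⧸ K)).Normal := by
      rw [hPeq, hS]
      infer_instance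
    intro P
    have h6 : ((P : Subgroup X).map (QuotientGroup.mk' K)) = (P0 : Subgroup (X ⧸ K)) := by
      have h7 : IsPGroup r ↥((P : Subgroup X).map (QuotientGroup.mk' K)) := P.2.map _
      obtain ⟨Q, hQ⟩ := h7.exists_le_sylow
      have h8 : (Q : Subgroup (X ⧸ K)) = P0 := by
        have h9 := Sylow.unique_of_normal P0 hPn
        exact congrArg Sylow.toSubgroup (Subsingleton.elim Q P0)
      rw [h8] at hQ
      refine Subgroup.eq_of_le_of_card_ge hQ ?_
      rw [hPc]
      have h10 := sylow_card hr hd h2 P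
      have h11 : Nat.card ((P : Subgroup X).map (QuotientGroup.mk' K)) = Nat.card (P : Subgroup X) := by
        apply Nat.card_congr
        symm
        refine Equiv.ofBijective ((QuotientGroup.mk' K).subgroupMap (P : Subgroup X)) ⟨?_, ?_⟩
        · rw [injective_iff_map_eq_one]
          intro a ha
          have h12 : (a : X) ∈ K := (QuotientGroup.eq_one_iff _).1 (congrArg Subtype.val ha)
          have h13 : orderOf (a : X) ∣ Nat.card K := by
            rw [← Subgroup.orderOf_mk _ h12]
            exact orderOf_dvd_natCard _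
          have h14 : orderOf (a : X) ∣ r := by
            have h15 := orderOf_dvd_natCard a
            rwa [h10, ← Subgroup.orderOf_coe] at h15
          rcases (Nat.dvd_prime hr).1 h14 with h15 | h15
          · exact Subtype.ext (orderOf_eq_one_iff.1 h15)
          · rw [h15] at h13
            exact absurd h13 hrK
        · exact (QuotientGroup.mk' K).subgroupMap_surjective _
      rw [h11, h10]
    have h16 : (P : Subgroup X) ⊔ K = ((P0 : Subgroup (X ⧸ K))).comap (QuotientGroup.mk' K) := by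
      rw [← h6, Subgroup.comap_map_eq, QuotientGroup.ker_mk']
    rw [h16]
    infer_instance
  · right
    refine ⟨S, hs, hab, hrS, fun M hM hrM => ?_⟩
    rw [hS]
    refine Subgroup.normalClosure_le_normal ?_
    intro y hy
    refine mem_of_pow hr M hrM ?_
    have h3 : (⟨y, hy⟩ : (P0 : Subgroup (X ⧸ K))) ^ Nat.card (P0 : Subgroup (X ⧸ K)) = 1 := pow_card_eq_one'
    rw [hPc] at h3
    exact congrArg Subtype.val h3

theorem normal_of_solIdx {X : Type u} [Group X] [Finite X] {r : ℕ} (hr : r.Prime) (hd : r ∣ Nat.card X)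
    (h2 : ¬ r ^ 2 ∣ Nat.card X) (h : SolIdx r X) : ∃ (K : Subgroup X) (_ : K.Normal), ¬ r ∣ Nat.card K ∧
      ∀ P : Sylow r X, ((P : Subgroup X) ⊔ K).Normal := by
  obtain ⟨K, hK, hrK, h3 | ⟨S, h4, h5, h6, h7⟩⟩ := dich hr hd h2
  · exact ⟨K, hK, hrK, h3⟩
  · exfalso
    obtain ⟨N, hN, hsol, hidx⟩ := h
    have hMn : (N.map (QuotientGroup.mk' K)).Normal := hN.map _ (QuotientGroup.mk'_surjective K)
    have h8 := h7 _ hMn fun h => hidx (h.trans (N.index_map_dvd (QuotientGroup.mk'_surjective K)))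
    apply h5
    have h9 : Group.IsSolvable (N.map (QuotientGroup.mk' K)) :=
      Group.isSolvable_of_surjective (f := (QuotientGroup.mk' K).subgroupMap N) ((QuotientGroup.mk' K).subgroupMap_surjective N)
    rw [IsSimpleGroup.comm_iff_isSolvable]
    exact Group.isSolvable_of_isSolvable_injective (inclusion_injective h8)

theorem normal_of_card {X : Type u} [Group X] [Finite X] {r : ℕ} (hr : r.Prime) (hd : r ∣ Nat.card X)
    (h2 : ¬ r ^ 2 ∣ Nat.card X) (h : ∀ (S : Type u) [Group S] [Finite S], IsSimpleGroup S →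
      (¬ ∀ a b : S, a * b = b * a) → Nat.card S ∣ Nat.card X → ¬ r ∣ Nat.card S) :
    ∃ (K : Subgroup X) (_ : K.Normal), ¬ r ∣ Nat.card K ∧ ∀ P : Sylow r X, ((P : Subgroup X) ⊔ K).Normal := by
  obtain ⟨K, hK, hrK, h3 | ⟨S, h4, h5, h6, h7⟩⟩ := dich hr hd h2
  · exact ⟨K, hK, hrK, h3⟩
  · exfalso
    refine h S h4 h5 ((Subgroup.card_subgroup_dvd_card S).trans ?_) h6
    exact Subgroup.card_quotient_dvd_card K

end Cfsg.Agent.H291.SolNorm
end

-- part: H291/SCTools
section
/-!
# `SolIdx` for centralizers (helper291)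

* `SolIdx.of_isolated` : an involution isolated in its centralizer;
* `SolIdx.cent_mk`, `SolIdx.cent_quot` : quotients by normal `p'`-subgroups;
* `SolIdx.of_XX` : `C(x)` if `r` does not divide `|C(x) / ⟨x⟩|`.
-/

set_option autoImplicit false

namespace Cfsg.Agent.H291.SolNorm

open Subgroup Cfsg Cfsg.Agent.LThree
open Cfsg.Agent.LThreeMB (XX)

universe u v

theorem SolIdx.congr {r : ℕ} {X : Type*} [Group X] {Y : Type*} [Group Y] (h : SolIdx r X) (e : X ≃* Y) :
    SolIdx r Y := h.map e.toMonoidHom e.surjective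

/-- Glauberman's theorem -/
theorem SolIdx.of_isolated {D : Type*} [Group D] [Finite D] {z : D} (hz : orderOf z = 2)
    (hiso : ∀ d : D, (d * z * d⁻¹) * z = z * (d * z * d⁻¹) → d * z * d⁻¹ = z) {r : ℕ}
    (h : ¬ r ∣ Nat.card ↥(centralizer ({z} : Set D))) : SolIdx r D := by
  obtain ⟨N, hN, hNo, hsup⟩ := Cfsg.Agent.LThreeMB.ZStar.exists_core hz hiso
  refine ⟨N, hN, Cfsg.Agent.S0205.result hNo, fun h1 => h (h1.trans ?_)⟩
  have h2 : N.index = N.relIndex (centralizer ({z} : Set D)) := by
    rw [← relIndex_top_right, ← hsup, relIndex_sup_left]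
  rw [h2]
  exact relIndex_dvd_card N _

/-- the centralizers of the elements of order `p` of `H / N`, `N` a `p'`-group -/
theorem SolIdx.cent_mk {r p : ℕ} (hp : p.Prime) {H : Type*} [Group H] [Finite H] (N : Subgroup H) [N.Normal]
    (hN : (Nat.card ↥N).Coprime p) (h : ∀ x : H, orderOf x = p → SolIdx r (centralizer ({x} : Set H))) {y : H ⧸ N}
    (hy : orderOf y = p) : SolIdx r (centralizer ({y} : Set (H ⧸ N))) := by
  obtain ⟨x, hx, rfl⟩ := BpSpor.Transfer.exists_lift hp N hN hy
  rw [Red.centralizer_mk hp N hN hx]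
  exact (h x hx).map ((QuotientGroup.mk' N).subgroupMap _) ((QuotientGroup.mk' N).subgroupMap_surjective _)

/-- `C_{C(t)}(x)` -/
theorem SolIdx.cent_sub {r : ℕ} {M : Type*} [Group M] {L : Subgroup M} {x : L}
    (h : SolIdx r (centralizer ({(x : M)} : Set M))) : SolIdx r (centralizer ({x} : Set L)) := by
  refine h.comap (Y := ↥(centralizer ({x} : Set L)))
    ((L.subtype.comp (centralizer ({x} : Set L)).subtype).codRestrict (centralizer ({(x : M)} : Set M)) fun g => ?_) ?_
  · rw [mem_centralizer_singleton_iff]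
    exact congrArg Subtype.val (mem_centralizer_singleton_iff.1 g.2)
  · intro a b hab
    exact Subtype.ext (Subtype.ext (congrArg (fun c : ↥(centralizer ({(x : M)} : Set M)) => (c : M)) hab))

/-- **The passage to `C(t) / Z(C(t))`.** -/
theorem SolIdx.cent_quot {M : Type*} [Group M] [Finite M] {t : M} {X : Type*} [Group X]
    (h2 : Nat.card ↥(center ↥(centralizer ({t} : Set M))) = 2)
    (e : ↥(centralizer ({t} : Set M)) ⧸ center ↥(centralizer ({t} : Set M)) ≃* X) {r p : ℕ} (hp : p.Prime)
    (hp2 : p ≠ 2)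
    (h : ∀ x : M, orderOf x = p → x * t = t * x → SolIdx r (centralizer ({x} : Set M))) {y : X}
    (hy : orderOf y = p) : SolIdx r (centralizer ({y} : Set X)) := by
  have h1 : SolIdx r (centralizer ({e.symm y} : Set (↥(centralizer ({t} : Set M)) ⧸ center ↥(centralizer ({t} : Set M))))) := by
    refine SolIdx.cent_mk hp _ ?_ ?_ (by rw [MulEquiv.orderOf_eq, hy])
    · rw [h2]
      exact (Nat.coprime_primes Nat.prime_two hp).2 (Ne.symm hp2)
    · intro x hx
      exact (h x (by rw [orderOf_coe, hx]) (mem_centralizer_singleton_iff.1 x.2)).cent_sub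
  have h3 : (centralizer ({e.symm y} : Set (↥(centralizer ({t} : Set M)) ⧸ center ↥(centralizer ({t} : Set M))))).map
      e.toMonoidHom = centralizer ({y} : Set X) := by
    ext g
    constructor
    · rintro ⟨a, ha, rfl⟩
      have h4 := mem_centralizer_singleton_iff.1 ha
      rw [mem_centralizer_singleton_iff]
      have h5 := congrArg e h4
      rw [map_mul, map_mul, e.apply_symm_apply] at h5
      exact h5
    · intro hg
      refine ⟨e.symm g, ?_, e.apply_symm_apply g⟩
      rw [SetLike.mem_coe, mem_centralizer_singleton_iff, ← map_mul, ← map_mul, mem_centralizer_singleton_iff.1 hg]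
  rw [← h3]
  exact h1.map (e.toMonoidHom.subgroupMap _) (e.toMonoidHom.subgroupMap_surjective _)

theorem SolIdx.of_XX {G : Type*} [Group G] {x : G} {r : ℕ} (hr : r.Prime) (hx : ¬ r ∣ orderOf x)
    (h : ¬ r ∣ Nat.card (XX x)) : SolIdx r (centralizer ({x} : Set G)) := by
  refine SolIdx.of_not_dvd fun h1 => ?_
  rw [BpRankZero.Seven.card_cent] at h1
  exact (hr.dvd_mul.1 h1).elim h hx

end Cfsg.Agent.H291.SolNorm
end

-- part: H291/SCMon
section
/-!
# Elements of orders 3 and 5 of the Monster: `SolIdx r C(x)` (helper291)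

`three`, `five` : `x` of order 3 or 5; `r` a prime which does not divide the orders of `2^25 Co1`, `Th`, `Fi24'`, `HN`.
-/

set_option autoImplicit false
set_option maxRecDepth 100000

namespace Cfsg.Agent.H291.SCMon

open Cfsg Cfsg.Agent.LThree Cfsg.Agent.LThreeMB Cfsg.Agent.MonsterU Cfsg.Agent.MonsterU.Ch
open Cfsg.Agent.MonsterX Cfsg.Agent.H291.SolNorm
open Cfsg.Agent.MonsterU.Lam2 (L2)
open Cfsg.Spor (Co1)
open Subgroup (centralizer zpowers mem_centralizer_singleton_iff center)

universe u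

theorem card_cz_of {G : Type u} [Group G] [Finite G] {Q : Subgroup G} {z : G} {eta : G → L2}
    {pi : Subgroup.centralizer ({z} : Set G) →* Co1} (h : Chart Q z eta pi) {r : ℕ}
    (hr : ¬ r ∣ 2 ^ 25 * 4157776806543360000) : ¬ r ∣ Nat.card ↥(centralizer ({z} : Set G)) := by
  intro h1
  apply hr
  have h2 := h1.trans (BpRankZero.Seven.card_cz h)
  rwa [NotCT.Orders.co1 ⟨MulEquiv.refl _⟩] at h2

/-- fixed rank 0 -/
theorem zero_of {G : Type u} [Group G] [Finite G] {Q : Subgroup G} {z : G} {eta : G → L2}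
    {pi : Subgroup.centralizer ({z} : Set G) →* Co1} (h : Chart Q z eta pi) {r : ℕ}
    (hr : ¬ r ∣ 2 ^ 25 * 4157776806543360000) {x : Subgroup.centralizer ({z} : Set G)}
    (hiso : ∀ d : G, d * (x : G) = x * d → (d * z * d⁻¹) * z = z * (d * z * d⁻¹) → d * z * d⁻¹ = z) :
    SolIdx r (centralizer ({(x : G)} : Set G)) := by
  have hxz : (x : G) * z = z * x := mem_centralizer_singleton_iff.1 x.2
  have hz2 : z * z = 1 := h.large.z_sq
  refine SolIdx.of_isolated (z := ⟨z, mem_centralizer_singleton_iff.2 hxz.symm⟩) ?_ ?_ ?_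
  · refine orderOf_eq_prime (p := 2) (Subtype.ext ?_) fun h1 => h.large.z_ne (congrArg Subtype.val h1)
    show z ^ 2 = 1
    rw [pow_two, hz2]
  · intro d hd
    exact Subtype.ext (hiso d (mem_centralizer_singleton_iff.1 d.2) (congrArg Subtype.val hd))
  · intro h1
    refine card_cz_of h hr (h1.trans ?_)
    refine Subgroup.card_dvd_of_injective
      ((((centralizer ({(x : G)} : Set G)).subtype).comp (centralizer ({(⟨z, mem_centralizer_singleton_iff.2 hxz.symm⟩ :
        ↥(centralizer ({(x : G)} : Set G)))} : Set ↥(centralizer ({(x : G)} : Set G)))).subtype).codRestrict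
          (centralizer ({z} : Set G)) fun g => ?_) ?_
    · rw [mem_centralizer_singleton_iff]
      exact congrArg Subtype.val (mem_centralizer_singleton_iff.1 g.2)
    · intro a b hab
      exact Subtype.ext (Subtype.ext (congrArg (fun c : ↥(centralizer ({z} : Set G)) => (c : G)) hab))

theorem three_in {G : Type u} [Group G] [Finite G] [IsSimpleGroup G] {Q : Subgroup G} {z : G} {eta : G → L2}
    {pi : Subgroup.centralizer ({z} : Set G) →* Co1} (h : Chart Q z eta pi) (I : CoOne) (ht : TrNe z pi)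
    (hp : HasPair z pi) {r : ℕ} (hr : r.Prime) (hr3 : ¬ r ∣ 3) (hr0 : ¬ r ∣ 2 ^ 25 * 4157776806543360000)
    (hr1 : ¬ r ∣ 90745943887872000) (hr2 : ¬ r ∣ 1255205709190661721292800)
    {x : Subgroup.centralizer ({z} : Set G)} (hx : orderOf x = 3) : SolIdx r (centralizer ({(x : G)} : Set G)) := by
  have zero : ∀ x : Subgroup.centralizer ({z} : Set G), orderOf x = 3 → fr (pi x) = 1 →
      SolIdx r (centralizer ({(x : G)} : Set G)) := fun x hx hfr =>
    zero_of h hr0 fun d hd hc => isolated h ht hx hfr d hd hc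
  have hx' : orderOf (x : G) = 3 := by rw [Subgroup.orderOf_coe, hx]
  rcases I.ranks (pi x) (orderOf_pi h hx) with h1 | h1 | h1 | h1
  · exact zero x hx h1
  · obtain ⟨x₀, u, g, hx₀, hfr₀, huz, hux, hne, hg⟩ := hp
    obtain ⟨k, hk⟩ := conj_six h ht I.ranks I.six
      (fun x hx h2 => ⟨(good_of_inputs h I hx h2 : Good.{u} _).simple, (good_of_inputs h I hx h2 : Good.{u} _).nc⟩)
      hx₀ hfr₀ huz hux hne hg hx h1
    obtain ⟨⟨e⟩, -⟩ := exists_XX_equiv hk
    exact (zero x₀ hx₀ hfr₀).congr e.symm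
  · refine SolIdx.of_XX hr (by rwa [hx']) ?_
    rwa [NotCT.Orders.th (LThreeB.isoTh_of_inputs h I hx h1)]
  · refine SolIdx.of_XX hr (by rwa [hx']) ?_
    rwa [NotCT.Orders.fi24 (LThreeB.isoFi_of_inputs h I hx h1)]

/-- **Elements of order 3 with a centralizer of even order.** -/
theorem three {r : ℕ} (hr : r.Prime) (hr3 : ¬ r ∣ 3) (hr0 : ¬ r ∣ 2 ^ 25 * 4157776806543360000)
    (hr1 : ¬ r ∣ 90745943887872000) (hr2 : ¬ r ∣ 1255205709190661721292800) {x : ↥InstData.M.G} (hx : orderOf x = 3) :
    SolIdx r (centralizer ({x} : Set ↥InstData.M.G)) := by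
  have := Row.finite_model
  have := Row.simple_model
  by_cases he : Odd (Nat.card ↥(centralizer ({x} : Set ↥InstData.M.G)))
  · exact SolIdx.of_solvable hr.ne_one (Row.ft _ he)
  · obtain ⟨g, hg⟩ := LThreeM.FiRow.exists_z_of_even hx he
    have h1 : (g⁻¹ * x * g) * KDone.K.z = KDone.K.z * (g⁻¹ * x * g) := by
      calc (g⁻¹ * x * g) * KDone.K.z = g⁻¹ * (x * (g * KDone.K.z * g⁻¹)) * g := by group
        _ = g⁻¹ * ((g * KDone.K.z * g⁻¹) * x) * g := by rw [hg]
        _ = KDone.K.z * (g⁻¹ * x * g) := by group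
    obtain ⟨x', hx'⟩ : ∃ x' : centralizer ({KDone.K.z} : Set ↥InstData.M.G), (x' : ↥InstData.M.G) = g⁻¹ * x * g :=
      ⟨⟨g⁻¹ * x * g, mem_centralizer_singleton_iff.2 h1⟩, rfl⟩
    have h3 : g * (x' : ↥InstData.M.G) * g⁻¹ = x := by rw [hx']; group
    have hx3 : orderOf x' = 3 := by
      rw [← Subgroup.orderOf_coe, ← hx, ← h3]
      exact (orderOf_injective (MulAut.conj g).toMonoidHom (MulAut.conj g).injective (x' : ↥InstData.M.G)).symm
    obtain ⟨⟨e⟩, -⟩ := exists_XX_equiv h3
    exact (three_in (KChart.chart KDone.lft Row.cent) CoOneFin.coOne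
      (KPair.trNe KDone.lft Row.cent (LThreeMBTr.traceNe KDone.lft LThreeMBTr.TensK.tens))
      (KPair.hasPair KDone.lft Row.cent Row.second COct.octPair) hr hr3 hr0 hr1 hr2 hx3).congr e

/-- **Elements of order 5.** -/
theorem five {r : ℕ} (hr : r.Prime) (hr5 : ¬ r ∣ 5) (hr0 : ¬ r ∣ 2 ^ 25 * 4157776806543360000)
    (hr1 : ¬ r ∣ 273030912000000) {x : ↥InstData.M.G} (hx : orderOf x = 5) :
    SolIdx r (centralizer ({x} : Set ↥InstData.M.G)) := by
  have := MFive.Row.finite_model
  rcases CpAutBFive.EvenRow.cases_solvable hx with h | h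
  · rcases MFive.Row.cases_model CpAutBFive.Final.coFive CpAutBFive.Closed.hnEight hx h with h1 | ⟨x₀, k, i, hx₀, hfr, hk⟩
    · refine SolIdx.of_XX hr (by rwa [hx]) ?_
      rwa [NotCT.Orders.hn h1]
    · have h2 : SolIdx r (centralizer ({(x₀ : ↥InstData.M.G)} : Set ↥InstData.M.G)) :=
        zero_of (KChart.chart KDone.lft MFive.Row.hc) hr0 fun d hd hc =>
          MFive.isolated (KChart.chart KDone.lft MFive.Row.hc)
            (MFive.KPair.trNe_five KDone.lft LThreeMBTr.tens MFive.Row.hc) hx₀ hfr d hd hc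
      obtain ⟨e⟩ := MFive.exists_cent_equiv Nat.prime_five (x := x) (y := (x₀ : ↥InstData.M.G)) hx
        (by rw [Subgroup.orderOf_coe, hx₀]) hk
      exact h2.congr e
  · exact SolIdx.of_solvable hr.ne_one h

end Cfsg.Agent.H291.SCMon
end
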