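import Mathlib
import Cfsg.Prelude.Def_EvenType
import Cfsg.Agent.FastGrp
import Cfsg.Agent.Prune
set_option linter.all false
prune_inst 0x7f00000000000000000000000000000000000000000000000000000000000000000000000000000000000000000000000000000000000000000000000000000000000000000000000000000000000000003fffffffffffffffffffffffffffbeffbdffffffff
open scoped Cfsg.Agent.FastGrp

/-!
# The index of the fixed points of an involutory automorphism centralizing a Sylow `p`-subgroup, `p` odd (helper291)

`index_modEq` : `t ∈ MulAut L`, `t² = 1`, `t` trivial on the Sylow `p`-subgroup `P`, `p` odd, `C_L(P) ≤ P`: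
`N_L(P) ≤ C_L(t)` and `|L : C_L(t)| ≡ 1 (mod p)`.
-/

set_option autoImplicit false

namespace Cfsg.Agent.H291.FixIndex

open Subgroup Cfsg

universe u

variable {L : Type u} [Group L] [Finite L]

omit [Finite L] in
theorem normalizer_le (t : MulAut L) (ht : t * t = 1) {p : ℕ} [Fact p.Prime] (ho : Odd p) (P : Sylow p L)
    (hP : ∀ x ∈ (P : Subgroup L), t x = x) (hC : centralizer ((P : Subgroup L) : Set L) ≤ P) :
    normalizer ((P : Subgroup L) : Set L) ≤ fixedSubgroup t := by
  intro n hn
  have htt : ∀ x, t (t x) = x := fun x => DFunLike.congr_fun ht x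
  have h1 : n⁻¹ * t n ∈ centralizer ((P : Subgroup L) : Set L) := by
    rw [mem_centralizer_iff]
    intro x hx
    have h2 : n * x * n⁻¹ ∈ (P : Subgroup L) := (mem_normalizer_iff.1 hn x).1 hx
    have h3 := hP _ h2
    rw [map_mul, map_mul, map_inv, hP x hx] at h3
    calc x * (n⁻¹ * t n) = n⁻¹ * (n * x * n⁻¹) * t n := by group
      _ = n⁻¹ * (t n * x * (t n)⁻¹) * t n := by rw [h3]
      _ = n⁻¹ * t n * x := by group
  have h2 := hC h1
  have h3 := hP _ h2
  rw [map_mul, map_inv, htt] at h3
  -- `c = n⁻¹ t(n)` satisfies `c⁻¹ = c`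
  have h4 : (n⁻¹ * t n) * (n⁻¹ * t n) = 1 := by
    nth_rewrite 2 [← h3]
    group
  have h5 : n⁻¹ * t n = 1 := by
    obtain ⟨k, hk⟩ := (P.2 ⟨_, h2⟩ : ∃ k : ℕ, (⟨n⁻¹ * t n, h2⟩ : ↥(P : Subgroup L)) ^ p ^ k = 1)
    have h6 : (n⁻¹ * t n) ^ p ^ k = 1 := congrArg Subtype.val hk
    obtain ⟨m, hm⟩ := ho.pow (n := k)
    rw [hm, pow_add, pow_mul, pow_two, h4, one_pow, one_mul, pow_one] at h6
    exact h6
  show t n = n
  exact (inv_mul_eq_one.1 h5).symm

theorem index_modEq (t : MulAut L) (ht : t * t = 1) {p : ℕ} [Fact p.Prime] (ho : Odd p) (P : Sylow p L)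
    (hP : ∀ x ∈ (P : Subgroup L), t x = x) (hC : centralizer ((P : Subgroup L) : Set L) ≤ P) :
    (fixedSubgroup t).index ≡ 1 [MOD p] := by
  have hN := normalizer_le t ht ho P hP hC
  have hPD : (P : Subgroup L) ≤ fixedSubgroup t := hP
  have h1 := card_sylow_modEq_one p L
  have h2 := card_sylow_modEq_one p ↥(fixedSubgroup t)
  rw [P.card_eq_index_normalizer] at h1
  rw [(P.subtype hPD).card_eq_index_normalizer] at h2
  have h3 : normalizer ((P.subtype hPD : Sylow p ↥(fixedSubgroup t)) : Set ↥(fixedSubgroup t)) =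
      (normalizer ((P : Subgroup L) : Set L)).subgroupOf (fixedSubgroup t) := by
    rw [subgroupOf_normalizer_eq hPD]
    rfl
  rw [h3] at h2
  have h4 : ((normalizer ((P : Subgroup L) : Set L)).subgroupOf (fixedSubgroup t)).index * (fixedSubgroup t).index =
      (normalizer (P : Set L)).index := relIndex_mul_index hN
  rw [← h4] at h1
  calc (fixedSubgroup t).index = 1 * (fixedSubgroup t).index := (one_mul _).symm
    _ ≡ ((normalizer ((P : Subgroup L) : Set L)).subgroupOf (fixedSubgroup t)).index * (fixedSubgroup t).index [MOD p] :=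
      (Nat.ModEq.mul_right _ h2).symm
    _ ≡ 1 [MOD p] := h1

end Cfsg.Agent.H291.FixIndex
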