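import Cfsg.Agent.H340.BabyTe
import Cfsg.Agent.S2084
import Cfsg.Agent.H287.FixCard
import Cfsg.Agent.CpAut.TwoTool
import Cfsg.Agent.FastGrp
import Cfsg.Agent.Prune
set_option linter.all false
prune_inst 0x7f00000000000000000000000000000000000000000000000000000000000000000000000000000000000000000000000000000000000000000000000000000000000000000000000000000000000000003fffffffffffffffffffffffffffbeffbdffffffff
open scoped Cfsg.Agent.FastGrp

/-!
# The components of the centralizers of the involutions of the Baby Monster (helper291)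

`table` : a component `C` of `C_B(u)`, `u` an involution, either is mapped onto `²E₆(2)` with a central kernel of
order at most 2, or is isomorphic to a simple normal subgroup `L` with `C(L) = 1` of the group of fixed points of an
automorphism `x` of order 2 of `²E₆(2)`, the involution centralizers of `L` are of characteristic 2, and
`|²E₆(2)| ≤ 13571955000 |C(x)|`.
-/

set_option autoImplicit false
set_option maxRecDepth 100000
set_option linter.unusedSectionVars false

open Subgroup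

namespace Cfsg.Agent.H291.BabyTab

open Cfsg Cfsg.Agent.CTwoTab

universe u v w

/-- the two possibilities -/
def Pr (E : Type v) [Group E] (K : Type u) [Group K] : Prop :=
  (∃ f : K →* E, Function.Surjective f ∧ Nat.card ↥f.ker ≤ 2 ∧ f.ker ≤ center K) ∨
    ∃ (x : MulAut E) (L : Subgroup ↥(fixedSubgroup x)), orderOf x = 2 ∧ IsSimpleGroup ↥L ∧ ¬ IsMulCommutative ↥L ∧
      L.Normal ∧ centralizer (L : Set ↥(fixedSubgroup x)) = ⊥ ∧
      (∀ v : ↥L, orderOf v = 2 → IsOfCharacteristicTwo ↥(centralizer ({v} : Set ↥L))) ∧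
      Nat.card E ≤ 13571955000 * Nat.card ↥(fixedSubgroup x) ∧ Nonempty (K ≃* ↥L)

theorem Pr.congr {E : Type v} [Group E] {K : Type u} {L : Type w} [Group K] [Group L] (e : K ≃* L) (h : Pr E K) :
    Pr E L := by
  rcases h with ⟨f, h1, h2, h3⟩ | ⟨x, L', h1, h2, h3, h4, h5, h6, h7, ⟨e'⟩⟩
  · left
    refine ⟨f.comp e.symm.toMonoidHom, h1.comp e.symm.surjective, ?_, ?_⟩
    · refine le_trans (le_of_eq (Nat.card_congr
        { toFun := fun z => (⟨e.symm z, z.2⟩ : ↥f.ker)
          invFun := fun z => ⟨e z, by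
            rw [MonoidHom.mem_ker]
            show f (e.symm (e z)) = 1
            rw [e.symm_apply_apply]
            exact z.2⟩
          left_inv := fun z => Subtype.ext (e.apply_symm_apply _)
          right_inv := fun z => Subtype.ext (e.symm_apply_apply _) })) h2
    · intro z hz
      have h4 : e.symm z ∈ center K := h3 hz
      rw [mem_center_iff] at h4 ⊢
      intro g
      have h5 := congrArg e (h4 (e.symm g))
      rwa [map_mul, map_mul, e.apply_symm_apply, e.apply_symm_apply] at h5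
  · right
    exact ⟨x, L', h1, h2, h3, h4, h5, h6, h7, ⟨e.symm.trans e'⟩⟩

section all

open Cfsg.Agent.R01.Lifts Cfsg.Agent.MonsterN Cfsg.Agent.MonsterN.Lit Cfsg.Agent.BabyComp.Main
open Cfsg.Agent.BabyComp Cfsg.Agent.BabyComp.NoSpec

variable {B : Type*} {X : Type u} {E : Type v} [Group B] [Group X] [Group E] [Finite B] [Finite X] [Finite E]
  {q : B →* X} {τ : B} {R : Set E}
variable {y : ℕ → B} {h : Pre y} {π : KK y →* E} {f₁ f₂ f₃ f₄ : B}

theorem pr_all [IsSimpleGroup E] {Γ : Type*} [Group Γ] [Finite Γ] (hq : Ext q τ) (h10 : y 10 = τ) (D : KD h R π)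
    (Fc : FusionType.Facts τ f₁ f₂ f₃ f₄) {θ : B →* Γ} {z : Γ}
    (hθ : Function.Injective θ) (hr : ∀ x : Γ, x * θ τ = θ τ * x → ∃ b, θ b = x)
    (hcz : IsConj z (θ (τ * (f₁ * f₂)))) (hcd : IsConj z (θ (f₁ * f₂ * f₃)))
    {Q : Subgroup Γ} (hL : Cfsg.Agent.Co2Type.Quad.Large Q z)
    (hc5 : IsConj f₁ (y 5)) (big : KEq.Big B τ (y 5))
    {F : Type*} [Field F] [Fintype F] {hF : Fintype.card F = 2 ^ 2}
    (hR : Cfsg.Agent.BabyU.RootCfg.RootFacts hF R) (hX : Cfsg.Agent.BabyU.Key.Extra hF R)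
    (Rt : Cfsg.Agent.BabyU.Lab.Roots E R)
    (hE : ∀ v : E, orderOf v = 2 → IsOfCharacteristicTwo ↥(centralizer ({v} : Set E)))
    {M₁ : Subgroup X} (Bs : Base (q (y 5)) M₁)
    (hN : Nat.card ↥{s : X | IsConj (q (y 5)) s} ≤ 13571955000)
    (bal : ∀ u : X, orderOf u = 2 → centralizerPPrimeCore 2 u = ⊥) (u : X) (hu : orderOf u = 2)
    (K : Subgroup X) (hK : IsComponentOf K (centralizer ({u} : Set X))) : Pr E ↥K := by
  obtain ⟨σ, hσ⟩ := exists_sigma hq h10 D
  have H := data hq h10 D big hσ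
  refine comp_all hq h10 D Fc hθ hr hcz hcd hL hc5 big hR hX Rt Bs (Pr := fun K _ => Pr E K)
    (fun e h => h.congr e) ?_ ?_ u hu K hK
  · intro K hK
    left
    obtain ⟨f, hf, hk, hcen⟩ := TwoA.exists_hom H hK
    refine ⟨f, hf, ?_, hcen⟩
    have hinj : Function.Injective (fun k : ↥f.ker => (⟨((k : ↥K) : X), by
        have := (hk k).1 k.2
        rcases this with h | h
        · rw [h]; exact one_mem _
        · rw [h]; exact mem_zpowers (q (y 5))⟩ : ↥(zpowers (q (y 5))))) := by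
      intro a b hab
      have h := congrArg (fun y' : ↥(zpowers (q (y 5))) => (y' : X)) hab
      exact Subtype.ext (Subtype.ext h)
    refine (Nat.card_le_card_of_injective _ hinj).trans ?_
    rw [Nat.card_zpowers]
    exact orderOf_le_of_pow_eq_one (by norm_num) (by rw [pow_two, H.t_sq])
  · intro u d huu hu1 hd hc hud K hK
    right
    have hu2 : orderOf u = 2 := orderOf_eq_prime (by rw [pow_two, huu]) hu1
    have HT := Bs.trans H.t_sq H.t_ne
    have hsec : ∀ d ∈ {s : X | IsConj (q (y 5)) s}, ∃ (X₀ : Subgroup X) (σ : ↥X₀ →* E), Sec.Data d σ := by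
      intro d hd
      obtain ⟨g, rfl⟩ := isConj_iff.1 hd
      have h1 := H.comap (MulAut.conj g⁻¹)
      have h2 : (MulAut.conj g⁻¹).symm (q (y 5)) = g * q (y 5) * g⁻¹ := by
        rw [MulEquiv.symm_apply_eq, MulAut.conj_apply]
        group
      rw [h2] at h1
      exact ⟨_, _, h1⟩
    obtain ⟨X₀, σ', H', x, L, hx2, hx, hs, hna, hLn, hCL, hct, he⟩ :=
      CaseTwo.main hE HT hsec huu hu1 hd hc hud (bal u hu2) hK
    exact ⟨x, L, hx2, hs, hna, hLn, hCL, hct, card_le_fix HT.conj hN H' hc hud hx, he⟩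

end all

section par

open Cfsg.Lie Cfsg.Agent.Bimonster Cfsg.Agent.BabyU Cfsg.Agent.TwoESix.Cover
open Cfsg.Agent.MonsterX.KSide Cfsg.Agent.MonsterX.KLift Cfsg.Agent.MonsterX.KModel
open Cfsg.Agent.MonsterX.Model Cfsg.Agent.MonsterX.MainPack Cfsg.Agent.MonsterX.MainSimple
open Cfsg.Agent.MonsterX.MainBasic Cfsg.Agent.MonsterU.Assembly Cfsg.Agent.MonsterN Cfsg.Agent.MonsterN.Lit
open Cfsg.Agent.MonsterN.LitInst Cfsg.Agent.MonsterU.Lam2 Cfsg.Agent.MonsterU.TwoCls
open Cfsg.Agent.BabyComp Cfsg.Agent.BabyComp.Par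

variable {V P W : Type} [AddCommGroup V] [Module ℚ V] [Group P] [AddCommGroup W] [Module ℚ W]
  {D : MData V} {M : KS ↥D.G V P W} {x₀ : P} {θ : leechLattice → P} {K₀ : Type} [Group K₀]

theorem par (A : All D K₀) (H : Link D M x₀) (L : Lift M θ) {τ : D.G} {y' : P}
    (T : Cfsg.Agent.MonsterU.InvTwo.TauHyp M θ ⊤ τ y') {y : ℕ → D.G} (hP : PRel y) (hne : y 0 ≠ y 1)
    (hy : ∃ g : D.G, g * tG A.hG A.hR * g⁻¹ = y 10)
    (bal : ∀ u : Spor.BabyMonster, orderOf u = 2 → centralizerPPrimeCore 2 u = ⊥)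
    (K : Type) [Field K] [Fintype K] (hK : Fintype.card K = 4) :
    ∀ u : Spor.BabyMonster, orderOf u = 2 → ∀ C : Subgroup Spor.BabyMonster,
      IsComponentOf C (centralizer ({u} : Set Spor.BabyMonster)) → Pr (twistedE6 K 2) ↥C := by
  have hfin : Finite D.G := G_finite A.hO
  have hB : Cfsg.IsB Cfsg.Spor.BabyMonster := Cfsg.Agent.S1704.result
  obtain ⟨⟨h1, h2, h3⟩, h43⟩ := ModelB.fieldsKS A H L hP hne hy hB H.x₀_mem
  obtain ⟨f₁, f₂, f₃, f₄, Fc, hcz, hcd, p, hp, hp2, hp2'⟩ := FusInst.exists_facts A H L T H.x₀_mem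
  have hzm : M.z ∈ BB M x₀ := mem_centralizer_singleton_iff.2 (by
    show M.ι M.zc * M.ι x₀ = M.ι x₀ * M.ι M.zc
    rw [← map_mul, ← map_mul, M.zc_comm])
  have hE : Emb (BB M x₀).subtype M.z (tb M x₀) f₁ f₂ f₃ :=
    ⟨Subtype.val_injective, nineteen H A, ((BB M x₀).subtype.map_isConj (hcz hzm)).symm, hcd⟩
  have hF : Fintype.card K = 2 ^ 2 := by rw [hK]; norm_num
  have hsE := EInst.isSimple K hK
  obtain ⟨e0, r, he0, hgen, hr, -, hconj⟩ := TwoESix.GoodInst.exists_good K hK
  have hR : ∀ i, e0 i ∈ rootClass K := fun i => by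
    obtain ⟨g, hg⟩ := hconj i
    exact ⟨g, r, hr, hg⟩
  have hHB : Finite HB := Cfsg.Agent.BM.HBFinal.finite_HB
  have hcard := Cfsg.Agent.BM.HBFinal.hcard K hK
  have big_a : KEq.Big (BB M x₀) (tb M x₀) f₁ := by
    have hm : M.ι p ∈ BB M x₀ := by rw [← hp]; exact f₁.2
    have e : f₁ = ⟨M.ι p, hm⟩ := Subtype.ext hp
    rw [e]
    exact BigAConf.big_a L T H.x₀_mem h43 hp2 hp2'
  obtain ⟨q, yB, hpre, π, hq, h10, DK, hc5, hq5⟩ :=
    NodesB.nodes he0 hgen hcard (Cfsg.Agent.BM.HBFinal.card_E K hK) hR h1 h2 h3 Fc hE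
  obtain ⟨M₁, Bs⟩ := BaseB.exists_base hq5
  have hfX : Finite Spor.BabyMonster := Finite.of_surjective q hq.surj
  have big : KEq.Big (BB M x₀) (tb M x₀) (yB 5) := big_a.conj (fun x => (Fc.cen x).symm) hc5
  have hz : M.z = zG A.hG := Subtype.ext H.z_eq.symm
  have hL : Cfsg.Agent.Co2Type.Quad.Large (D.Q.subgroupOf D.G) M.z := by
    rw [hz]
    exact Cfsg.Agent.MonsterU.ModelChart.large A.hG A.hR A.hL A.hO A.hT
  have hr : ∀ x : D.G, x * (BB M x₀).subtype (tb M x₀) = (BB M x₀).subtype (tb M x₀) * x →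
      ∃ b, (BB M x₀).subtype b = x := fun x hx => ⟨⟨x, mem_centralizer_singleton_iff.2 hx⟩, rfl⟩
  intro u hu K' hK'
  exact pr_all (E := twistedE6 K 2) (hF := hF) hq h10 DK Fc hE.inj hr hE.conj_z hE.conj_d hL hc5 big
    (Cfsg.Agent.TwoESix.LeviG.rootFacts hK hF) (KeyInst.extra hF) (Cfsg.Agent.TwoESix.RootsInst.roots K hF)
    (EFacts.charTwo K hK) Bs (card_class hq5) bal u hu K' hK'

end par

open Cfsg.Agent.MonsterX Cfsg.Agent.MonsterX.Space Cfsg.Agent.MonsterX.Conc Cfsg.Agent.MonsterX.Model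
open Cfsg.Agent.MonsterX.InstData Cfsg.Agent.MonsterX.MainPack Cfsg.Agent.MonsterU
open Cfsg.Agent.MonsterP Cfsg.Agent.MonsterP.NodeData Cfsg.Agent.MonsterP.NodesConj Cfsg.Agent.CTwoTab.BInst

/-- **The components of the involution centralizers of the Baby Monster.** -/
theorem table (K : Type) [Field K] [Fintype K] (hK : Fintype.card K = 4) (u : Spor.BabyMonster) (hu : orderOf u = 2)
    (C : Subgroup Spor.BabyMonster) (hC : IsComponentOf C (centralizer ({u} : Set Spor.BabyMonster))) :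
    Pr (Cfsg.Lie.twistedE6 K 2) ↥C :=
  par all KDone.lnk KDone.lft
    (TauInst.tauHyp (Final.cent InstanceFinal.mOrbit Instance.mTrans)) (NodesGrp.prel H) (NodesNe.ne H)
    conj_ten CTwoTab.B.bal K hK u hu C hC

/-- `|E|` -/
theorem card_E (K : Type) [Field K] [Fintype K] (hK : Fintype.card K = 4) :
    Nat.card (Cfsg.Lie.twistedE6 K 2) = 76532479683774853939200 := Cfsg.Agent.BM.HBFinal.card_E K hK

/-- `F₄`, a field with 4 elements -/
theorem exists_field : ∃ (K : Type) (_ : Field K) (_ : Fintype K), Fintype.card K = 4 :=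
  ⟨GaloisField 2 2, inferInstance, Fintype.ofFinite _, by
    have := Fintype.ofFinite (GaloisField 2 2)
    rw [Fintype.card_eq_nat_card]
    exact GaloisField.card 2 2 (by norm_num)⟩

/-- **The order of a simple group `K / Z(K)`, `K` a component.** -/
theorem Pr.cases {E : Type v} [Group E] [Finite E] (hE : center E = ⊥) {K : Type u} [Group K] [Finite K] (h : Pr E K)
    {S : Type w} [Group S] (e : K ⧸ center K ≃* S) :
    Nat.card S = Nat.card E ∨
      (Nat.card S ∣ Nat.card E ∧ Nat.card E ≤ 13571955000 * Nat.card (MulAut S)) := by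
  rcases h with ⟨f, h1, h2, h3⟩ | ⟨x, L, h1, h2, h3, h4, h5, h6, h7, ⟨e'⟩⟩
  · left
    rw [← Nat.card_congr e.toEquiv, Nat.card_congr (quoCenterEquiv h1 hE h3).toEquiv]
  · right
    have hz : center ↥L = ⊥ := CTwoTab.center_eq_bot_of_simple h3
    have e1 : K ⧸ center K ≃* ↥L :=
      (quoEquiv e').trans ((QuotientGroup.quotientMulEquivOfEq hz).trans QuotientGroup.quotientBot)
    have e2 : ↥L ≃* S := e1.symm.trans e
    refine ⟨?_, h7.trans (Nat.mul_le_mul_left _ ?_)⟩
    · rw [← Nat.card_congr e2.toEquiv]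
      exact (card_subgroup_dvd_card L).trans (card_subgroup_dvd_card (fixedSubgroup x))
    · rw [← BabyComp.NoSpec.card_aut_congr e2]
      exact BabyComp.NoSpec.card_le_aut L h4 h5

/-- **The components of the centralizers of the involutory automorphisms of the Baby Monster.** -/
theorem fix {X : Type u} [Group X] (h : Spor.IsoB X) (K : Type) [Field K] [Fintype K] (hK : Fintype.card K = 4)
    (x : MulAut X) (hx : orderOf x = 2) (C : Subgroup ↥(fixedSubgroup x)) (hC : IsComponent C) :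
    Pr (Cfsg.Lie.twistedE6 K 2) ↥C := by
  have hB : Cfsg.IsB Cfsg.Spor.BabyMonster := Cfsg.Agent.S1704.result
  obtain ⟨e⟩ := h
  have hfin : Finite Spor.BabyMonster := finite_B
  have hfX : Finite X := Finite.of_equiv _ e.symm.toEquiv
  have hcX : Nat.card X = 4154781481226426191177580544000000 := by rw [Nat.card_congr e.toEquiv, hB.2]
  obtain ⟨g, rfl⟩ := CpAut.TwoInner.inner_congr e (fun α => H287.inner_of_out S2084.result α) x
  have hs : IsSimpleGroup X := by
    have := hB.1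
    exact e.isSimpleGroup
  have hc : center X = ⊥ := CpAut.TwoInner.center_eq_bot_of_card hs (by rw [hcX]; norm_num)
  rw [CpAut.orderOf_conj hc] at hx
  -- `C` as a component of `C_X(g)`
  have hmap : (C.map (fixedSubgroup (MulAut.conj g)).subtype).subgroupOf (fixedSubgroup (MulAut.conj g)) = C := by
    rw [subgroupOf, comap_map_eq_self_of_injective (fixedSubgroup (MulAut.conj g)).subtype_injective]
  have h1 : IsComponentOf (C.map (fixedSubgroup (MulAut.conj g)).subtype) (centralizer ({g} : Set X)) := by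
    rw [← CpAut.fixedSubgroup_conj]
    exact ⟨map_subtype_le C, by rwa [hmap]⟩
  have h2 := isComponentOf_map e h1
  rw [map_centralizer_singleton] at h2
  have h3 := table K hK (e g) (by rw [MulEquiv.orderOf_eq, hx]) _ h2
  have e1 := subMap e (C.map (fixedSubgroup (MulAut.conj g)).subtype)
  have e2 : ↥C ≃* ↥(C.map (fixedSubgroup (MulAut.conj g)).subtype) :=
    C.equivMapOfInjective _ (fixedSubgroup (MulAut.conj g)).subtype_injective
  exact h3.congr (e2.trans e1).symm

end Cfsg.Agent.H291.BabyTab
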