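import Cfsg.Agent.H287.FixCard
import Cfsg.Agent.H287.OutFi24_m3
import Cfsg.Agent.H291.BabyTab
import Cfsg.Agent.H287.FixInn
import Cfsg.Agent.H287.InnON_m3
import Cfsg.Agent.H341.ThreeList_m3
import Cfsg.Agent.FastGrp
import Cfsg.Agent.Prune
set_option linter.all false
prune_inst 0x7f00000000000000000000000000000000000000000000000000000000000000000000000000000000000000000000000000000000000000000000000000000000000000000000000000000000000000003fffffffffffffffffffffffffffbeffbdffffffff
open scoped Cfsg.Agent.FastGrp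

-- part: H291/FiOut
section
/-!
# The components of the centralizers of the outer involutory automorphisms of `Fi24'` (helper291)

`outCard` : the component is `Fi23` or `2².U₆(2)`.
-/

set_option autoImplicit false

namespace Cfsg.Agent.H291.FiOut

open Cfsg Cfsg.Spor Cfsg.Agent.R01 Cfsg.Agent.R08 Cfsg.Agent.R08.FiTwentyFour
open Cfsg.Agent.R08.TetBasic Cfsg.Agent.R08.TetFi24A
open Cfsg.Agent.CpAutFi24.OutInv Cfsg.Agent.CpAutFi24.Unit Cfsg.Agent.CpAutFi24.Row
open Subgroup
open Cfsg.Agent.H287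

/-- the orders of the components and of their simple quotients -/
def SF (n m : ℕ) : Prop :=
  (n = 4089470473293004800 ∧ m = 4089470473293004800) ∨ (n = 36787322880 ∧ m = 9196830720)

/-- **three transpositions** -/
theorem hcard_tri {a b c : Fi24} (h : Tri3 a b c) (X : Subgroup Spor.Fi24')
    (hX : ∀ k : Spor.Fi24', k ∈ X ↔ Commute (k : Fi24) (a * b * c)) : HCard SF ↥X := by
  have := finite_Fi24
  have hF : Finite Spor.Fi24' := inferInstance
  have hX' : ∀ k ∈ X, Commute (k : Fi24) (a * b * c) := fun k hk => (hX k).1 hk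
  have hker : ∀ k : X, k ∈ (act h X hX').ker ↔ ((k : Spor.Fi24') : Fi24) ∈ U a b c := by
    intro k
    rw [MonoidHom.mem_ker]
    constructor
    · intro hk
      have h1 : ∀ d : {d : Fi24 // d = a ∨ d = b ∨ d = c}, Commute ((k : Spor.Fi24') : Fi24) d := by
        intro d
        have h2 : ((k : Spor.Fi24') : Fi24) * d * ((k : Spor.Fi24') : Fi24)⁻¹ = d :=
          congrArg Subtype.val (DFunLike.congr_fun hk d)
        exact mul_inv_eq_iff_eq_mul.1 h2
      exact ⟨(k : Spor.Fi24').2, h1 ⟨a, Or.inl rfl⟩, h1 ⟨b, Or.inr (Or.inl rfl)⟩, h1 ⟨c, Or.inr (Or.inr rfl)⟩⟩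
    · rintro ⟨-, h1, h2, h3⟩
      ext d
      change ((k : Spor.Fi24') : Fi24) * d * ((k : Spor.Fi24') : Fi24)⁻¹ = d
      obtain ⟨d, rfl | rfl | rfl⟩ := d
      · exact mul_inv_eq_iff_eq_mul.2 h1
      · exact mul_inv_eq_iff_eq_mul.2 h2
      · exact mul_inv_eq_iff_eq_mul.2 h3
  let f : (act h X hX').ker →* U a b c :=
    { toFun := fun k => ⟨((k : X) : Spor.Fi24'), (hker k).1 k.2⟩
      map_one' := rfl
      map_mul' := fun _ _ => rfl }
  have hf : Function.Bijective f := by
    constructor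
    · intro k l e
      apply Subtype.ext
      apply Subtype.ext
      apply Subtype.ext
      exact congrArg (fun u : U a b c => (u : Fi24)) e
    · intro u
      have h0 := u.2
      obtain ⟨h1, h2, h3, h4⟩ := mem_U.1 h0
      have h5 : (⟨u, h1⟩ : Spor.Fi24') ∈ X := (hX _).2 ((h2.mul_right h3).mul_right h4)
      exact ⟨⟨⟨⟨u, h1⟩, h5⟩, (hker _).2 h0⟩, rfl⟩
  let e : (act h X hX').ker ≃* U a b c := MulEquiv.ofBijective f hf
  refine HCard.of_normal (act h X hX').ker ?_ (HCard.congr e.symm ?_)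
  · have hs : Finite {d : Fi24 // d = a ∨ d = b ∨ d = c} := inferInstance
    have h4 : Nat.card {d : Fi24 // d = a ∨ d = b ∨ d = c} ≤ 4 := by
      have h5 : Nat.card {d : Fi24 // d = a ∨ d = b ∨ d = c} ≤ Nat.card (Fin 3) := by
        refine Nat.card_le_card_of_surjective (fun i : Fin 3 => (![⟨a, Or.inl rfl⟩, ⟨b, Or.inr (Or.inl rfl)⟩,
          ⟨c, Or.inr (Or.inr rfl)⟩] : Fin 3 → {d : Fi24 // d = a ∨ d = b ∨ d = c}) i) ?_
        rintro ⟨d, rfl | rfl | rfl⟩
        · exact ⟨0, rfl⟩
        · exact ⟨1, rfl⟩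
        · exact ⟨2, rfl⟩
      rw [Nat.card_fin] at h5
      omega
    have h6 := Cfsg.Agent.Schreier.Tools.isSolvable_perm_of_card_le_four _ h4
    exact Group.isSolvable_of_isSolvable_injective (QuotientGroup.kerLift_injective (act h X hX'))
  · have hfU : Finite ↥(U a b c) := inferInstance
    have P := (exists_at h.ha h.hb h.nab h.ab)
    obtain ⟨P⟩ := P
    refine HCard.of_quasisimple (quasi h) (Or.inr ⟨card_U h, ?_⟩)
    rw [Nat.card_congr (CTwoTab.quoCenterEquiv (sig_surj P (nb_of h)) (center_quo P (nb_of h))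
      (ker_le P (nb_of h))).toEquiv, card_quo P (nb_of h)]

/-- **a transposition** -/
theorem hcard_one {a : Fi24} (ha : a ∈ L) (X : Subgroup Spor.Fi24')
    (hX : ∀ k : Spor.Fi24', k ∈ X ↔ Commute (k : Fi24) a) : HCard SF ↥X := by
  have F := FiTwentyFour.facts
  obtain ⟨h, rfl⟩ := isConj_iff.1 (show IsConj (Fischer.Fi24Class.gen .l) a from ha)
  let ψ : Fi23 →* Fi24 := (MulAut.conj h).toMonoidHom.comp F.phi
  have hψi : Function.Injective ψ := (MulAut.conj h).injective.comp F.phi_injective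
  have hψ : ∀ g : Fi24, g ∈ commutator Fi24 → g * (h * Fischer.Fi24Class.gen .l * h⁻¹) =
      (h * Fischer.Fi24Class.gen .l * h⁻¹) * g → ∃ k, ψ k = g := by
    intro g hg hgc
    obtain ⟨k, hk⟩ := (F.mem_range_iff (h⁻¹ * g * h)).2 ⟨by
      calc h⁻¹ * g * h * Fischer.Fi24Class.gen .l
          = h⁻¹ * (g * (h * Fischer.Fi24Class.gen .l * h⁻¹)) * h := by group
        _ = h⁻¹ * ((h * Fischer.Fi24Class.gen .l * h⁻¹) * g) * h := by rw [hgc]
        _ = _ := by group, by
      rw [← mem_commutator_iff]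
      have := (inferInstance : (commutator Fi24).Normal).conj_mem g hg h⁻¹
      rwa [inv_inv] at this⟩
    refine ⟨k, ?_⟩
    change h * F.phi k * h⁻¹ = g
    rw [hk]
    group
  have hψc : ∀ k, ψ k ∈ commutator Fi24 ∧ ψ k * (h * Fischer.Fi24Class.gen .l * h⁻¹) =
      (h * Fischer.Fi24Class.gen .l * h⁻¹) * ψ k := by
    intro k
    have e : ψ k = h * F.phi k * h⁻¹ := rfl
    have h1 : F.phi k ∈ commutator Fi24 := mem_commutator_iff.2 (F.sgn_phi k)
    refine ⟨?_, ?_⟩
    · rw [e]
      exact (inferInstance : (commutator Fi24).Normal).conj_mem _ h1 h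
    · rw [e]
      calc h * F.phi k * h⁻¹ * (h * Fischer.Fi24Class.gen .l * h⁻¹)
          = h * (F.phi k * Fischer.Fi24Class.gen .l) * h⁻¹ := by group
        _ = h * (Fischer.Fi24Class.gen .l * F.phi k) * h⁻¹ := by rw [F.phi_comm]
        _ = _ := by group
  let f : Fi23 →* X :=
    { toFun := fun k => ⟨⟨ψ k, (hψc k).1⟩, (hX _).2 (hψc k).2⟩
      map_one' := Subtype.ext (Subtype.ext (map_one ψ))
      map_mul' := fun k l => Subtype.ext (Subtype.ext (map_mul ψ k l)) }
  have hf : Function.Bijective f := by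
    constructor
    · intro k l e
      apply hψi
      exact congrArg (fun y : X => ((y : Spor.Fi24') : Fi24)) e
    · rintro ⟨g, hg⟩
      obtain ⟨k, hk⟩ := hψ g g.2 ((hX g).1 hg)
      exact ⟨k, Subtype.ext (Subtype.ext hk)⟩
  have h23 : HCard SF Fi23 := by
    have := simple23
    have := finite23
    exact HCard.of_simple (not_comm_of_card (by rw [card23]; norm_num)) (Or.inl ⟨card23, card23⟩)
  exact h23.congr (MulEquiv.ofBijective f hf)

theorem outer (x : MulAut Spor.Fi24') (hx : orderOf x = 2) (hout : ¬ ∃ g, x = MulAut.conj g) :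
    HCard SF ↥(fixedSubgroup x) := by
  obtain ⟨g, hg⟩ := KFacts.FiTF.exists_conj x
  have hxx : x * x = 1 := by rw [← pow_two, ← hx, pow_orderOf_eq_one]
  have hgn : g ∉ commutator Fi24 := by
    intro h
    apply hout
    refine ⟨⟨g, h⟩, ?_⟩
    ext k
    exact hg k
  have hgg : g * g = 1 := by
    apply eq_one_of_comm
    intro k hk
    have h1 : x (x ⟨k, hk⟩) = ⟨k, hk⟩ := DFunLike.congr_fun hxx ⟨k, hk⟩
    have h2 := congrArg Subtype.val h1
    rw [hg, hg] at h2
    have h3 : g * (g * k * g⁻¹) * g⁻¹ = k := h2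
    calc g * g * k = g * (g * k * g⁻¹) * g⁻¹ * (g * g) := by group
      _ = k * (g * g) := by rw [h3]
  have hX : ∀ k : Spor.Fi24', k ∈ fixedSubgroup x ↔ Commute (k : Fi24) g := by
    intro k
    constructor
    · intro hk
      have h1 : x k = k := hk
      have h2 : g * (k : Fi24) * g⁻¹ = k := by rw [← hg, h1]
      exact (mul_inv_eq_iff_eq_mul.1 h2).symm
    · intro hk
      change x k = k
      apply Subtype.ext
      rw [hg, mul_inv_eq_iff_eq_mul]
      exact hk.eq.symm
  rcases outer_cases hgn hgg with h | ⟨a, b, c, h, rfl⟩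
  · exact hcard_one h _ hX
  · exact hcard_tri h _ hX

/-- **`Fi24'`** -/
theorem outCard {X : Type*} [Group X] (h : Spor.IsoFi24' X) : OutCard SF X := by
  obtain ⟨f⟩ := h
  exact OutCard.of_equiv f.symm outer

end Cfsg.Agent.H291.FiOut
end

-- part: H291/PslRow
section
/-!
# `PSL_m(2^k)`, `m ≥ 4`, as a component of `C_X(x)`, `X` sporadic (helper291)

`row` : `X` sporadic or the Tits group, `x` an involutory automorphism of `X`: no component `K` of `C_X(x)` satisfies
`K / Z(K) ≅ PSL_m(2^k)`, `m ≥ 4`, `(m, k) ≠ (4, 1)`.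
-/

set_option autoImplicit false

open Subgroup Cfsg Cfsg.Agent.OrdDiv

namespace Cfsg.Agent.H291.PslRow

open Cfsg.Agent.H287 Cfsg.Agent.NotCT

universe u v

/-- the pairs `(m, q)` -/
def bad (l : List (ℕ × ℕ)) (N : ℕ) : List (ℕ × ℕ) :=
  (cand l N fPSL).filter fun x => Nat.ble 4 x.1 && (x.2 % 2 == 0) && !(Nat.beq x.1 4 && Nat.beq x.2 2)

/-- the data -/
structure Par (m k : ℕ) (F : Type) [Field F] [Fintype F] : Prop where
  hm : 4 ≤ m
  hk : 1 ≤ k
  hmk : ¬ (m = 4 ∧ k = 1)
  hF : Fintype.card F = 2 ^ k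

theorem mem_bad {l : List (ℕ × ℕ)} {N : ℕ} (hv : valid l N = true) {F : Type} [Field F] [Fintype F] {m k : ℕ}
    (P : Par m k F) (hd : Nat.card (Matrix.ProjectiveSpecialLinearGroup (Fin m) F) ∣ N) :
    (m, Fintype.card F) ∈ bad l N ∧
      Nat.card (Matrix.ProjectiveSpecialLinearGroup (Fin m) F) = ordN (.psl m (Fintype.card F)) := by
  obtain ⟨h1, h2⟩ := psl_mem hv (by have := P.hm; omega) (by have := P.hm; omega) hd
  refine ⟨?_, h2⟩
  unfold bad
  rw [List.mem_filter]
  refine ⟨h1, ?_⟩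
  have h3 : Nat.ble 4 m = true := Nat.ble_eq_true_of_le P.hm
  have h4 : (Fintype.card F % 2 == 0) = true := by
    rw [P.hF, beq_iff_eq]
    exact Nat.mod_eq_zero_of_dvd (dvd_pow_self 2 (by have := P.hk; omega))
  have h5 : (Nat.beq m 4 && Nat.beq (Fintype.card F) 2) = false := by
    rw [← Bool.not_eq_true, Bool.and_eq_true, Nat.beq_eq, Nat.beq_eq]
    rintro ⟨h6, h7⟩
    apply P.hmk
    refine ⟨h6, ?_⟩
    rw [P.hF] at h7
    exact Nat.pow_right_injective le_rfl (by simpa using h7)
  simp only [h3, h4, h5]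
  rfl

theorem none {l : List (ℕ × ℕ)} {N : ℕ} (hc : (valid l N && (bad l N).isEmpty) = true) {F : Type} [Field F] [Fintype F]
    {m k : ℕ} (P : Par m k F) : ¬ Nat.card (Matrix.ProjectiveSpecialLinearGroup (Fin m) F) ∣ N := by
  rw [Bool.and_eq_true, List.isEmpty_iff] at hc
  intro hd
  have h := (mem_bad hc.1 P hd).1
  rw [hc.2] at h
  exact List.not_mem_nil h

/-- all the elements of `bad l N` satisfy `f` -/
theorem all {l : List (ℕ × ℕ)} {N : ℕ} (f : ℕ × ℕ → Bool) (hc : (valid l N && (bad l N).all f) = true)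
    {F : Type} [Field F] [Fintype F]
    {m k : ℕ} (P : Par m k F) (hd : Nat.card (Matrix.ProjectiveSpecialLinearGroup (Fin m) F) ∣ N) :
    f (m, Fintype.card F) = true := by
  rw [Bool.and_eq_true, List.all_eq_true] at hc
  exact hc.2 _ (mem_bad hc.1 P hd).1

/-! ### The rows -/

section rows

set_option linter.unusedSectionVars false

variable {X : Type u} [Group X] [Finite X] {x : MulAut X} {K : Subgroup ↥(fixedSubgroup x)}

/-- `|K / Z(K)|` divides `|X|` -/
theorem quot_dvd {S : Type v} [Group S] (e : ↥K ⧸ center ↥K ≃* S) : Nat.card S ∣ Nat.card X := by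
  rw [← Nat.card_congr e.toEquiv]
  exact ((card_quotient_dvd_card _).trans (card_subgroup_dvd_card K)).trans (card_subgroup_dvd_card (fixedSubgroup x))

theorem row_none {l : List (ℕ × ℕ)} {N : ℕ} (hc : (valid l N && (bad l N).isEmpty) = true) (hX : Nat.card X = N)
    {F : Type} [Field F] [Fintype F] {m k : ℕ} (P : Par m k F)
    (e : ↥K ⧸ center ↥K ≃* Matrix.ProjectiveSpecialLinearGroup (Fin m) F) : False :=
  none hc P (hX ▸ quot_dvd e)

/-- the order of `K / Z(K)` -/
theorem quot_card {S : ℕ → ℕ → Prop} (h : FixCard S X) (hx : orderOf x = 2) (hK : IsComponent K) {Y : Type v} [Group Y]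
    (e : ↥K ⧸ center ↥K ≃* Y) : ∃ n, S n (Nat.card Y) := by
  rw [← Nat.card_congr e.toEquiv]
  exact ⟨_, h x hx K hK⟩

/-- the orders -/
theorem orders {l : List (ℕ × ℕ)} {N : ℕ} {L : List ℕ}
    (hc : (valid l N && (bad l N).all fun y => L.contains (ordN (.psl y.1 y.2))) = true) (hX : Nat.card X = N)
    {F : Type} [Field F] [Fintype F] {m k : ℕ} (P : Par m k F)
    (e : ↥K ⧸ center ↥K ≃* Matrix.ProjectiveSpecialLinearGroup (Fin m) F) :
    Nat.card (Matrix.ProjectiveSpecialLinearGroup (Fin m) F) ∈ L := by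
  have hd : Nat.card (Matrix.ProjectiveSpecialLinearGroup (Fin m) F) ∣ N := hX ▸ quot_dvd e
  have hv : valid l N = true := (Bool.and_eq_true _ _ ▸ hc).1
  have h1 := all _ hc P hd
  rw [(mem_bad hv P hd).2]
  simpa using h1

theorem row_fi23 (hx : orderOf x = 2) (hK : IsComponent K) [IsSimpleGroup X] (h : Spor.IsoFi23 X)
    {F : Type} [Field F] [Fintype F] {m k : ℕ} (P : Par m k F)
    (e : ↥K ⧸ center ↥K ≃* Matrix.ProjectiveSpecialLinearGroup (Fin m) F) : False := by
  have h1 := orders (l := [(2, 18), (3, 13), (5, 2), (7, 1), (11, 1), (13, 1), (17, 1), (23, 1)])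
    (N := 4089470473293004800) (L := [987033600]) (by decide +kernel) (Orders.fi23 h) P e
  obtain ⟨n, h2⟩ := quot_card (fix_fi23 h) hx hK e
  rw [List.mem_singleton] at h1
  rw [h1] at h2
  omega

theorem row_fi24 (hx : orderOf x = 2) (hK : IsComponent K) [IsSimpleGroup X] (h : Spor.IsoFi24' X)
    {F : Type} [Field F] [Fintype F] {m k : ℕ} (P : Par m k F)
    (e : ↥K ⧸ center ↥K ≃* Matrix.ProjectiveSpecialLinearGroup (Fin m) F) : False := by
  have h1 := orders (l := [(2, 21), (3, 16), (5, 2), (7, 3), (11, 1), (13, 1), (17, 1), (23, 1), (29, 1)])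
    (N := 1255205709190661721292800) (L := [987033600]) (by decide +kernel) (Orders.fi24 h) P e
  rw [List.mem_singleton] at h1
  have hc : center X = ⊥ := CpAut.TwoInner.center_eq_bot_of_card inferInstance (by rw [Orders.fi24 h]; norm_num)
  have hF : FixCard (fun _ m => m ≠ 987033600) X := by
    refine FixCard.mk hc ((compCard_fi24 h).mono ?_) (fun x hx ho => ((FiOut.outCard h) x hx ho).mono ?_)
    · intro n m h
      omega
    · intro n m h
      unfold FiOut.SF at h
      omega
  obtain ⟨n, h2⟩ := quot_card hF hx hK e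
  exact h2 h1

theorem row_m (hx : orderOf x = 2) (hK : IsComponent K) [IsSimpleGroup X] (h : Spor.IsoM X)
    {F : Type} [Field F] [Fintype F] {m k : ℕ} (P : Par m k F)
    (e : ↥K ⧸ center ↥K ≃* Matrix.ProjectiveSpecialLinearGroup (Fin m) F) : False := by
  obtain ⟨n, -, h2⟩ := quot_card (fix_m h) hx hK e
  have h1 := orders (l := [(2, 46), (3, 20), (5, 9), (7, 6), (11, 2), (13, 3), (17, 1), (19, 1), (23, 1), (29, 1), (31, 1),
      (41, 1), (47, 1), (59, 1), (71, 1)])
    (N := 808017424794512875886459904961710757005754368000000000)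
    (L := [(5, 2), (6, 2), (4, 4), (5, 4), (6, 4)].map fun y => ordN (.psl y.1 y.2)) (by decide +kernel) (Orders.m h) P e
  rw [h2] at h1
  revert h1
  decide +kernel

theorem row_b (hx : orderOf x = 2) (hK : IsComponent K) (h : Spor.IsoB X)
    {F : Type} [Field F] [Fintype F] {m k : ℕ} (P : Par m k F)
    (e : ↥K ⧸ center ↥K ≃* Matrix.ProjectiveSpecialLinearGroup (Fin m) F) : False := by
  obtain ⟨K4, _, _, hK4⟩ := BabyTab.exists_field
  have h1 := BabyTab.fix h K4 hK4 x hx K hK
  have : Finite (Lie.twistedE6 K4 2) := Nat.finite_of_card_ne_zero (by rw [BabyTab.card_E K4 hK4]; norm_num)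
  have hE : center (Lie.twistedE6 K4 2) = ⊥ := CpAut.TwoInner.center_eq_bot_of_card
    (MonsterN.EInst.isSimple K4 hK4) (by rw [BabyTab.card_E K4 hK4]; norm_num)
  have h2 := h1.cases hE e
  rw [BabyTab.card_E K4 hK4] at h2
  have hv : valid [(2, 36), (3, 9), (5, 2), (7, 2), (11, 1), (13, 1), (17, 1), (19, 1)] 76532479683774853939200 = true := by
    decide +kernel
  have hd : Nat.card (Matrix.ProjectiveSpecialLinearGroup (Fin m) F) ∣ 76532479683774853939200 := by
    rcases h2 with h2 | h2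
    · rw [h2]
    · exact h2.1
  have h3 := (mem_bad hv P hd).1
  have h4 : bad [(2, 36), (3, 9), (5, 2), (7, 2), (11, 1), (13, 1), (17, 1), (19, 1)] 76532479683774853939200 =
      [(4, 4)] := by decide +kernel
  rw [h4, List.mem_singleton, Prod.mk.injEq] at h3
  obtain ⟨rfl, hF⟩ := h3
  have h5 := (mem_bad hv P hd).2
  rw [hF] at h5
  have h6 : ordN (.psl 4 4) = 987033600 := by decide +kernel
  rcases h2 with h2 | ⟨-, h2⟩
  · rw [h2, h6] at h5
    norm_num at h5
  · have h7 := BabyComp.NoSpec.card_aut_psl_le F (p := 2) (f := 2) Nat.prime_two one_le_two le_rfl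
      (by rw [hF]; norm_num) 4 (by norm_num) (fun h => absurd h (by norm_num))
    rw [hF] at h7
    have h8 := h2.trans (Nat.mul_le_mul_left _ h7)
    norm_num at h8

theorem row_no (hx : orderOf x = 2) (hK : IsComponent K) (h : FixCard NoC X) : False := h x hx K hK

/-- **`PSL_m(2^k)` is not a component in a sporadic group or the Tits group.** -/
theorem row [IsSimpleGroup X] (h : IsSporadicGroup X ∨ Lie.IsoTits X) (hx : orderOf x = 2) (hK : IsComponent K)
    {F : Type} [Field F] [Fintype F] {m k : ℕ} (P : Par m k F)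
    (e : ↥K ⧸ center ↥K ≃* Matrix.ProjectiveSpecialLinearGroup (Fin m) F) : False := by
  rcases h with h | h
  · rcases h with h | h | h | h | h | h | h | h | h | h | h | h | h | h | h | h | h | h | h | h | h | h | h | h | h | h
    · exact row_none (l := [(2, 4), (3, 2), (5, 1), (11, 1)]) (by decide +kernel) (Orders.m11 h) P e
    · exact row_none (l := [(2, 6), (3, 3), (5, 1), (11, 1)]) (by decide +kernel) (Orders.m12 h) P e
    · exact row_none (l := [(2, 7), (3, 2), (5, 1), (7, 1), (11, 1)]) (by decide +kernel) (Orders.m22 h) P e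
    · exact row_none (l := [(2, 7), (3, 2), (5, 1), (7, 1), (11, 1), (23, 1)]) (by decide +kernel) (Orders.m23 h) P e
    · exact row_none (l := [(2, 10), (3, 3), (5, 1), (7, 1), (11, 1), (23, 1)]) (by decide +kernel) (Orders.m24 h) P e
    · exact row_none (l := [(2, 3), (3, 1), (5, 1), (7, 1), (11, 1), (19, 1)]) (by decide +kernel) (Orders.j1 h) P e
    · exact row_none (l := [(2, 7), (3, 3), (5, 2), (7, 1)]) (by decide +kernel) (Orders.j2 h) P e
    · exact row_none (l := [(2, 7), (3, 5), (5, 1), (17, 1), (19, 1)]) (by decide +kernel) (Orders.j3 h) P e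
    · exact row_no hx hK (fix_j4 h)
    · exact row_none (l := [(2, 21), (3, 9), (5, 4), (7, 2), (11, 1), (13, 1), (23, 1)]) (by decide +kernel)
        (Orders.co1 h) P e
    · exact row_none (l := [(2, 18), (3, 6), (5, 3), (7, 1), (11, 1), (23, 1)]) (by decide +kernel) (Orders.co2 h) P e
    · exact row_none (l := [(2, 10), (3, 7), (5, 3), (7, 1), (11, 1), (23, 1)]) (by decide +kernel) (Orders.co3 h) P e
    · exact row_none (l := [(2, 7), (3, 6), (5, 3), (7, 1), (11, 1)]) (by decide +kernel) (Orders.mcl h) P e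
    · exact row_none (l := [(2, 9), (3, 2), (5, 3), (7, 1), (11, 1)]) (by decide +kernel) (Orders.hs h) P e
    · exact row_none (l := [(2, 13), (3, 7), (5, 2), (7, 1), (11, 1), (13, 1)]) (by decide +kernel) (Orders.suz h) P e
    · exact row_none (l := [(2, 10), (3, 3), (5, 2), (7, 3), (17, 1)]) (by decide +kernel) (Orders.he h) P e
    · exact row_none (l := [(2, 14), (3, 3), (5, 3), (7, 1), (13, 1), (29, 1)]) (by decide +kernel) (Orders.ru h) P e
    · exact row_none (l := [(2, 9), (3, 4), (5, 1), (7, 3), (11, 1), (19, 1), (31, 1)]) (by decide +kernel)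
        (Orders.on h) P e
    · exact row_none (l := [(2, 8), (3, 7), (5, 6), (7, 1), (11, 1), (31, 1), (37, 1), (67, 1)]) (by decide +kernel)
        (Orders.ly h) P e
    · exact row_none (l := [(2, 17), (3, 9), (5, 2), (7, 1), (11, 1), (13, 1)]) (by decide +kernel) (Orders.fi22 h) P e
    · exact row_fi23 hx hK h P e
    · exact row_fi24 hx hK h P e
    · exact row_none (l := [(2, 14), (3, 6), (5, 6), (7, 1), (11, 1), (19, 1)]) (by decide +kernel) (Orders.hn h) P e
    · exact row_no hx hK (fix_th h)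
    · exact row_b hx hK h P e
    · exact row_m hx hK h P e
  · exact row_none (l := [(2, 11), (3, 3), (5, 2), (13, 1)]) (by decide +kernel) (Orders.tits h) P e

end rows

end Cfsg.Agent.H291.PslRow
end
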