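import Cfsg.Agent.H287.OutFi24_m3
import Cfsg.Agent.KFacts.HS.Sheet2_m3
import Cfsg.Agent.H291.RowsF
import Cfsg.Agent.CTwoTab.HN
import Cfsg.Agent.KFacts.HN.Sheet
import Cfsg.Agent.FastGrp
import Cfsg.Agent.Prune
set_option linter.all false
prune_inst 0x7f00000000000000000000000000000000000000000000000000000000000000000000000000000000000000000000000000000000000000000000000000000000000000000000000000000000000000003fffffffffffffffffffffffffffbeffbdffffffff
open scoped Cfsg.Agent.FastGrp

-- part: H291/HSFix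
section
/-!
# Involutory automorphisms of `HS` centralizing a subgroup of order 2520 with trivial centre (helper291)

`main` : the order of the fixed points is divisible by 64.
-/

set_option autoImplicit false

namespace Cfsg.Agent.H291.HSFix

open Subgroup Cfsg Cfsg.Agent.KFacts.HS Cfsg.Agent.KFacts.HS.DFour

universe u

variable {L : Type u} [Group L] (D : Cfsg.Agent.KFacts.HS.Mod L)

theorem card_conj {c x : L} : Nat.card ↥(centralizer ({c * x * c⁻¹} : Set L)) = Nat.card ↥(centralizer ({x} : Set L)) := by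
  have h := LThreeFix.card_cent_equiv (MulAut.conj c) x
  rwa [MulAut.conj_apply] at h

include D in
/-- the orders of the centralizers of the involutions -/
theorem cent_cases [Finite L] {x : L} (hx : x * x = 1) (h1 : x ≠ 1) :
    Nat.card ↥(centralizer ({x} : Set L)) = 7680 ∨ Nat.card ↥(centralizer ({x} : Set L)) ≤ 2880 := by
  rcases inv_cases D x hx h1 with ⟨c, rfl⟩ | ⟨c, rfl⟩
  · left
    rw [card_conj]
    have hz := D.card_centralizer
    rcases inv_cases D D.z D.zz D.z1 with ⟨d, hd⟩ | ⟨d, hd⟩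
    · rw [← hd, card_conj] at hz
      exact hz
    · rw [← hd, card_conj] at hz
      have := card_C D
      omega
  · right
    rw [card_conj]
    exact card_C D

/-- conjugate automorphisms -/
theorem card_fix_conj (a x : MulAut L) : Nat.card ↥(fixedSubgroup (a * x * a⁻¹)) = Nat.card ↥(fixedSubgroup x) := by
  have h : fixedSubgroup (a * x * a⁻¹) = (fixedSubgroup x).map a.toMonoidHom := by
    ext y
    rw [mem_map]
    constructor
    · intro hy
      refine ⟨a⁻¹ y, ?_, ?_⟩
      · change x (a⁻¹ y) = a⁻¹ y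
        have h1 : (a * x * a⁻¹) y = y := hy
        rw [MulAut.mul_apply, MulAut.mul_apply] at h1
        apply a.injective
        rw [h1]
        exact (MulAut.apply_inv_self L a y).symm
      · exact MulAut.apply_inv_self L a y
    · rintro ⟨z, hz, rfl⟩
      change (a * x * a⁻¹) (a z) = a z
      rw [MulAut.mul_apply, MulAut.mul_apply, MulAut.inv_apply_self]
      rw [show x z = z from hz]
  rw [h]
  exact (Nat.card_congr ((fixedSubgroup x).equivMapOfInjective _ a.injective).toEquiv).symm

include D in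
theorem main (hZL : center L = ⊥) (x : MulAut L) (hx : x * x = 1) {B : Type*} [Group B] (f : B →* L)
    (hf : Function.Injective f) (hfix : ∀ b, x (f b) = f b) (hB : Nat.card B = 2520) (hZ : center B = ⊥)
    (hP : commutator B = ⊤) :
    2 ^ 6 ∣ Nat.card ↥(fixedSubgroup x) := by
  have hfin : Finite L := fin D
  have hle : f.range ≤ fixedSubgroup x := by
    rintro _ ⟨b, rfl⟩
    exact hfix b
  have hcr : Nat.card ↥f.range = 2520 := by
    rw [← hB]
    exact (Nat.card_congr (MonoidHom.ofInjective hf).toEquiv).symm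
  have h7 : 2520 ∣ Nat.card ↥(fixedSubgroup x) := by
    rw [← hcr]
    exact card_dvd_of_le hle
  by_cases h1 : x = 1
  · subst h1
    have h2 : fixedSubgroup (1 : MulAut L) = ⊤ := by
      ext y
      exact ⟨fun _ => mem_top y, fun _ => rfl⟩
    rw [h2, Subgroup.card_top, D.card]
    norm_num
  have ho : orderOf x = 2 := orderOf_eq_prime (by rw [pow_two, hx]) h1
  by_cases hin : ∃ g : L, x = MulAut.conj g
  · exfalso
    obtain ⟨g, rfl⟩ := hin
    have hfx : fixedSubgroup (MulAut.conj g) = centralizer ({g} : Set L) := by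
      ext y
      rw [mem_centralizer_singleton_iff]
      change g * y * g⁻¹ = y ↔ _
      rw [mul_inv_eq_iff_eq_mul]
      exact eq_comm
    rw [hfx] at h7 hle
    have hg1 : g ≠ 1 := by
      rintro rfl
      exact h1 (map_one _)
    -- `g` is an involution
    have hgg : g * g = 1 := by
      have h2 : MulAut.conj (g * g) = 1 := by rw [map_mul, hx]
      have h3 : g * g ∈ center L := by
        rw [mem_center_iff]
        intro y
        have h4 := DFunLike.congr_fun h2 y
        rw [MulAut.conj_apply] at h4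
        exact (mul_inv_eq_iff_eq_mul.1 h4).symm
      rw [hZL] at h3
      exact h3
    rcases cent_cases D hgg hg1 with h2 | h2
    · rw [h2] at h7
      norm_num at h7
    · -- `⟨g⟩ × B ≤ C(g)`
      have hgn : g ∉ f.range := by
        rintro ⟨b, rfl⟩
        have hb : b ∈ center B := by
          rw [mem_center_iff]
          intro c
          apply hf
          rw [map_mul, map_mul]
          exact mem_centralizer_singleton_iff.1 (hle ⟨c, rfl⟩)
        rw [hZ] at hb
        rw [hb, map_one] at hg1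
        exact hg1 rfl
      have h3 : 2 * Nat.card ↥f.range ≤ Nat.card ↥(centralizer ({g} : Set L)) :=
        KFacts.HS.TwoB.two_mul_card_le_of hle (mem_centralizer_singleton_iff.2 rfl) hgn
      rw [hcr] at h3
      omega
  · obtain ⟨a, h2 | h2⟩ := Cfsg.Agent.CpAutTwo.HS.outer_cases D x ho hin
    · rw [h2, card_fix_conj]
      have h3 : Nat.card ↥(Cfsg.Agent.CpAutTwo.HS.al D).range = 20160 := by
        rw [← Nat.card_congr (MonoidHom.ofInjective (Cfsg.Agent.CpAutTwo.HS.al_inj D)).toEquiv]
        rw [nat_card_alternatingGroup, Nat.card_eq_fintype_card, Fintype.card_fin]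
        decide
      have h4 := card_dvd_of_le (Cfsg.Agent.CpAutTwo.HS.al_le D)
      rw [h3] at h4
      exact (by norm_num : 2 ^ 6 ∣ 20160).trans h4
    · exfalso
      have hle' : (f.range.map a⁻¹.toMonoidHom) ≤ fixedSubgroup (D.au Cfsg.Agent.HN.Syl.d) := by
        rintro _ ⟨y, hy, rfl⟩
        have h3 : x y = y := hle hy
        rw [h2] at h3
        change (D.au Cfsg.Agent.HN.Syl.d) (a⁻¹ y) = a⁻¹ y
        rw [MulAut.mul_apply, MulAut.mul_apply] at h3
        apply a.injective
        rw [h3]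
        exact (MulAut.apply_inv_self L a y).symm
      have hperf : ⁅f.range.map a⁻¹.toMonoidHom, f.range.map a⁻¹.toMonoidHom⁆ = f.range.map a⁻¹.toMonoidHom := by
        rw [← map_commutator, MonoidHom.range_eq_map, ← map_commutator]
        congr 2
      have h3 : f.range.map a⁻¹.toMonoidHom ≤ D.im Cfsg.Agent.CpAutTwo.HS.Cd :=
        CTwoTab.perfect_le_of_sq (fun q hq => Cfsg.Agent.CpAutTwo.HS.sq_mem D hq) _ hle' hperf
      have h4 := Nat.le_of_dvd Nat.card_pos (card_dvd_of_le h3)
      rw [← Nat.card_congr ((f.range).equivMapOfInjective _ (a⁻¹).injective).toEquiv, hcr] at h4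
      have hcd : 2 * Nat.card ↥(D.im Cfsg.Agent.CpAutTwo.HS.Cd) = Nat.card ↥Cfsg.Agent.CpAutTwo.HS.Cd :=
        D.card_im Cfsg.Agent.CpAutTwo.HS.τ_mem_Cd inf_le_right
      have := Cfsg.Agent.CpAutTwo.HS.card_Cd
      omega

end Cfsg.Agent.H291.HSFix
end

-- part: H291/RowsH
section
/-!
# The row `HN`, `n = 9` (helper291)

* `card_bar_dvd` : `|C_{N/Z(N)}(τ)|` divides `|C_N(τ)|`;
* `two_pow_dvd` : in the situation `Sit X n`, `u` acting as `σ`, `N` the largest perfect subgroup of `C_X(u)`: a power of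
  2 dividing `|C_{N/Z(N)}(t)|` divides `|C_{S_n}(σ)|`;
* `row_hn9`.
-/

set_option autoImplicit false

namespace Cfsg.Agent.H291.RowsH

open Subgroup Equiv Cfsg Cfsg.Agent.H291 Cfsg.Agent.H291.RowsC Cfsg.Agent.H291.RowsE

universe u

theorem card_bar_dvd {N : Type u} [Group N] [Finite N] (τ : MulAut N) :
    Nat.card ↥(fixedSubgroup (bar τ)) ∣ Nat.card ↥(fixedSubgroup τ) := by
  set F := fixedSubgroup (bar τ) with hF
  set D := F.comap (QuotientGroup.mk' (center N)) with hD
  have hmem : ∀ n ∈ D, n⁻¹ * τ n ∈ center N := by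
    intro n hn
    have h1 : bar τ (QuotientGroup.mk' (center N) n) = QuotientGroup.mk' (center N) n := hn
    rw [bar_mk] at h1
    exact QuotientGroup.eq.1 h1.symm
  let δ : ↥D →* ↥(center N) :=
    { toFun := fun n => ⟨(n : N)⁻¹ * τ n, hmem n n.2⟩
      map_one' := Subtype.ext (by simp only [_root_.OneMemClass.coe_one, _root_.inv_one, _root_.map_one, _root_.mul_one])
      map_mul' := fun n m => by
        apply Subtype.ext
        change ((n : N) * m)⁻¹ * τ ((n : N) * m) = ((n : N)⁻¹ * τ n) * ((m : N)⁻¹ * τ m)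
        have h1 := mem_center_iff.1 (hmem n n.2) (m : N)⁻¹
        rw [map_mul, mul_inv_rev]
        calc (m : N)⁻¹ * (n : N)⁻¹ * (τ n * τ m) = ((m : N)⁻¹ * ((n : N)⁻¹ * τ n)) * τ m := by group
          _ = (((n : N)⁻¹ * τ n) * (m : N)⁻¹) * τ m := by rw [h1]
          _ = _ := by group }
  have h1 : Nat.card ↥δ.ker = Nat.card ↥(fixedSubgroup τ) := by
    have h2 : fixedSubgroup τ ≤ D := by
      intro x hx
      change bar τ (QuotientGroup.mk' (center N) x) = QuotientGroup.mk' (center N) x
      rw [bar_mk, show τ x = x from hx]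
    have h3 : δ.ker = (fixedSubgroup τ).subgroupOf D := by
      ext x
      rw [MonoidHom.mem_ker, mem_subgroupOf]
      constructor
      · intro h
        have h4 : (x : N)⁻¹ * τ x = 1 := congrArg Subtype.val h
        exact (inv_mul_eq_one.1 h4).symm
      · intro h
        apply Subtype.ext
        change (x : N)⁻¹ * τ x = 1
        rw [show τ (x : N) = x from h, inv_mul_cancel]
    rw [h3]
    exact Nat.card_congr (subgroupOfEquivOfLe h2).toEquiv
  have h2 : Nat.card ↥D = Nat.card ↥(center N) * Nat.card ↥F := by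
    have h3 : D.index = F.index := index_comap_of_surjective F (QuotientGroup.mk'_surjective _)
    have h4 := D.card_mul_index
    have h5 := F.card_mul_index
    have h6 := (center N).card_mul_index
    have h7 : (center N).index = Nat.card (N ⧸ center N) := rfl
    rw [h7, ← h5, ← h4, h3, ← mul_assoc] at h6
    have h8 : F.index ≠ 0 := F.index_ne_zero_of_finite
    exact (Nat.eq_of_mul_eq_mul_right (Nat.pos_of_ne_zero h8) h6).symm
  have h3 := δ.ker.card_mul_index
  rw [index_ker, h1, h2] at h3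
  obtain ⟨s, hs⟩ := card_subgroup_dvd_card δ.range
  have h4 : Nat.card ↥δ.range ≠ 0 := Nat.card_pos.ne'
  refine ⟨s, ?_⟩
  have h5 : Nat.card ↥δ.range * Nat.card ↥(fixedSubgroup τ) = Nat.card ↥δ.range * (Nat.card ↥F * s) := by
    rw [mul_comm, h3, hs]
    ring
  exact Nat.eq_of_mul_eq_mul_left (Nat.pos_of_ne_zero h4) h5

variable {X : Type u} [Group X] [Finite X] {n : ℕ}

theorem two_pow_dvd (S : AltCore.Sit X n) (hn : 7 ≤ n) {u : X} (htu : S.t u = u) {σ : Perm (Fin n)}
    (hσ : ∀ a : ↥S.A, (S.e (S.cj htu a) : Perm (Fin n)) = σ * S.e a * σ⁻¹)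
    {N : Subgroup X} (T : TopP X u N) {k : ℕ}
    (hk : 2 ^ k ∣ Nat.card ↥(fixedSubgroup (bar (tau S.tt (fun x (hx : x ∈ N) => map_mem htu T hx))))) :
    2 ^ k ∣ Nat.card ↥(centralizer ({σ} : Set (Perm (Fin n)))) := by
  set τ := tau S.tt (fun x (hx : x ∈ N) => map_mem htu T hx) with hτ
  have h1 := hk.trans (card_bar_dvd τ)
  set! M := (fixedSubgroup τ).map N.subtype with hM
  have hMN : M ≤ N := map_subtype_le _
  have hMt : ∀ x ∈ M, S.t x = x := by
    rintro _ ⟨x, hx, rfl⟩
    exact congrArg Subtype.val (show τ x = x from hx)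
  have h2 : 2 ^ k ∣ Nat.card ↥M := by
    rw [hM, ← Nat.card_congr ((fixedSubgroup τ).equivMapOfInjective _ N.subtype_injective).toEquiv]
    exact h1
  set! π := perm S hn M hMt with hπ
  have h3 : ¬ 2 ∣ Nat.card ↥π.ker := by
    intro h
    obtain ⟨y, hy⟩ := exists_prime_orderOf_dvd_card' (G := ↥π.ker) 2 h
    have hyo : orderOf (((y : ↥M)) : X) = 2 := by
      rw [Subgroup.orderOf_coe, Subgroup.orderOf_coe, hy]
    obtain ⟨a, ha, hne⟩ := S.odd _ hyo (hMt _ (y : ↥M).2)
    exact hne (comm_of_perm S hn M hMt (MonoidHom.mem_ker.1 y.2) ⟨a, ha⟩)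
  have h4 := π.ker.card_mul_index
  rw [index_ker] at h4
  rw [← h4] at h2
  have h5 : 2 ^ k ∣ Nat.card ↥π.range :=
    (Nat.Coprime.pow_left k ((Nat.Prime.coprime_iff_not_dvd Nat.prime_two).2 h3)).dvd_of_dvd_mul_left h2
  refine h5.trans (card_dvd_of_le ?_)
  rintro _ ⟨x, rfl⟩
  rw [mem_centralizer_singleton_iff]
  exact perm_comm S hn M hMt htu hσ x (mem_centralizer_singleton_iff.1 (T.le (hMN x.2)))

/-- the 7-cycle -/
def p7 : Perm (Fin 9) := [0, 1, 2, 3, 4, 5, 6].formPerm

theorem p7_mem : p7 ∈ alternatingGroup (Fin 9) := by rw [Equiv.Perm.mem_alternatingGroup]; decide +kernel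

seal _root_.Equiv.swap in
/-- involutions commuting with the 7-cycle `p7` are transpositions -/
theorem fix_seven {σ : Perm (Fin 9)} (h2 : orderOf σ = 2) (hc : σ * p7 = p7 * σ) :
    ∃ s : Finset (Fin 9), (∀ i ∈ s, σ i = i) ∧ s.card = 7 ∧
      Nat.card ↥(centralizer ({σ} : Set (Perm (Fin 9)))) = 10080 := by
  have hss : σ ^ 2 = 1 := by rw [← h2, pow_orderOf_eq_one]
  have hinv : ∀ i, σ (σ i) = i := fun i => by
    have := DFunLike.congr_fun hss i
    rwa [pow_two] at this
  have hcm : ∀ i, σ (p7 i) = p7 (σ i) := fun i => DFunLike.congr_fun hc i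
  have e0 : p7 0 = 1 := by decide +kernel
  have e1 : p7 1 = 2 := by decide +kernel
  have e2 : p7 2 = 3 := by decide +kernel
  have e3 : p7 3 = 4 := by decide +kernel
  have e4 : p7 4 = 5 := by decide +kernel
  have e5 : p7 5 = 6 := by decide +kernel
  have f1 : σ 1 = p7 (σ 0) := by rw [← hcm, e0]
  have f2 : σ 2 = p7 (p7 (σ 0)) := by rw [← f1, ← hcm, e1]
  have f3 : σ 3 = p7 (p7 (p7 (σ 0))) := by rw [← f2, ← hcm, e2]
  have f4 : σ 4 = p7 (p7 (p7 (p7 (σ 0)))) := by rw [← f3, ← hcm, e3]
  have f5 : σ 5 = p7 (p7 (p7 (p7 (p7 (σ 0))))) := by rw [← f4, ← hcm, e4]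
  have f6 : σ 6 = p7 (p7 (p7 (p7 (p7 (p7 (σ 0)))))) := by rw [← f5, ← hcm, e5]
  have h0 : σ 0 = 0 := by
    have h7 : σ 0 ≠ 7 := by
      intro h
      have h6 : σ 1 = σ 0 := by rw [f1, h]; decide +kernel
      exact absurd (σ.injective h6) (by decide)
    have h8 : σ 0 ≠ 8 := by
      intro h
      have h6 : σ 1 = σ 0 := by rw [f1, h]; decide +kernel
      exact absurd (σ.injective h6) (by decide)
    have hx := hinv 0
    generalize hg : σ 0 = a at *
    fin_cases a
    · rfl
    · exfalso
      have h8 : σ 1 = 0 := hx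
      rw [f1] at h8
      revert h8
      decide +kernel
    · exfalso
      have h8 : σ 2 = 0 := hx
      rw [f2] at h8
      revert h8
      decide +kernel
    · exfalso
      have h8 : σ 3 = 0 := hx
      rw [f3] at h8
      revert h8
      decide +kernel
    · exfalso
      have h8 : σ 4 = 0 := hx
      rw [f4] at h8
      revert h8
      decide +kernel
    · exfalso
      have h8 : σ 5 = 0 := hx
      rw [f5] at h8
      revert h8
      decide +kernel
    · exfalso
      have h8 : σ 6 = 0 := hx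
      rw [f6] at h8
      revert h8
      decide +kernel
    · exact absurd rfl h7
    · exact absurd rfl h8
  have g1 : σ 1 = 1 := by rw [f1, h0, e0]
  have g2 : σ 2 = 2 := by rw [f2, h0, e0, e1]
  have g3 : σ 3 = 3 := by rw [f3, h0, e0, e1, e2]
  have g4 : σ 4 = 4 := by rw [f4, h0, e0, e1, e2, e3]
  have g5 : σ 5 = 5 := by rw [f5, h0, e0, e1, e2, e3, e4]
  have g6 : σ 6 = 6 := by rw [f6, h0, e0, e1, e2, e3, e4, e5]
  have hsub : σ.support ⊆ {7, 8} := by
    intro i hi
    rw [Perm.mem_support] at hi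
    fin_cases i
    · exact absurd h0 hi
    · exact absurd g1 hi
    · exact absurd g2 hi
    · exact absurd g3 hi
    · exact absurd g4 hi
    · exact absurd g5 hi
    · exact absurd g6 hi
    all_goals decide
  have hle : σ.support.card ≤ 2 := (Finset.card_le_card hsub).trans (by decide)
  have hdvd : 2 ∣ σ.support.card := Equiv.Perm.two_dvd_card_support hss
  have hne : σ.support.card ≠ 0 := by
    rw [Finset.card_ne_zero, Finset.nonempty_iff_ne_empty, Ne, Perm.support_eq_empty_iff]
    rintro rfl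
    rw [orderOf_one] at h2
    norm_num at h2
  have h3 : σ.support.card = 2 := by omega
  have hsw : σ.IsSwap := Perm.card_support_eq_two.1 h3
  have hct : σ.cycleType = {2} := by rw [hsw.isCycle.cycleType, h3]
  refine ⟨σ.supportᶜ, fun i hi => ?_, ?_, ?_⟩
  · rw [Finset.mem_compl, Perm.notMem_support] at hi
    exact hi
  · rw [Finset.card_compl, h3, Fintype.card_fin]
  · rw [Equiv.Perm.nat_card_centralizer, hct]
    simp [Nat.factorial]

theorem card_alt_seven {s : Finset (Fin n)} (hs : s.card = 7) : Nat.card ↥(alternatingGroup ↥s) = 2520 := by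
  have hc : Nat.card ↥s = 7 := by rw [Nat.card_eq_fintype_card, Fintype.card_coe, hs]
  have : Nontrivial ↥s := by
    rw [← Fintype.one_lt_card_iff_nontrivial, Fintype.card_coe, hs]
    norm_num
  rw [nat_card_alternatingGroup, hc]
  decide

open Cfsg.Agent.HN Cfsg.Agent.HN.XWords Cfsg.Agent.HN.XStruct in
/-- an involution of `HN` commuting with an element of order 7 -/
theorem conj_Q0 {u : Spor.HN} (hu : orderOf u = 2) (h7 : 7 ∣ Nat.card ↥(centralizer ({u} : Set Spor.HN))) :
    ∃ g : MulAut Spor.HN, g (Cfsg.Agent.HN.XWords.Q 0) = u := by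
  have h1 : u * u = 1 := by rw [← pow_two, ← hu, pow_orderOf_eq_one]
  have h2 : u ≠ 1 := by rintro rfl; rw [orderOf_one] at hu; norm_num at hu
  rcases OddHalf.D4.Spor.HN.inv_cases h1 h2 with ⟨g, hg⟩ | ⟨g, hg⟩
  · exfalso
    rw [← hg, HSFix.card_conj] at h7
    rw [show Nat.card ↥(centralizer ({W0} : Set Spor.HN)) = 3686400 from KFacts.HN.card_PP] at h7
    norm_num at h7
  · exact ⟨MulAut.conj g, hg⟩

theorem topP_hn : TopP Spor.HN (Cfsg.Agent.HN.XWords.Q 0) CTwoTab.HN.N where
  le := CTwoTab.HN.N_le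
  perf := by
    have h : commutator ↥CTwoTab.HN.N = ⊤ := CTwoTab.HN.qs_N.1.1
    have h1 := congrArg (Subgroup.map CTwoTab.HN.N.subtype) h
    rwa [_root_.commutator_def, map_commutator, ← MonoidHom.range_eq_map, range_subtype] at h1
  max := CTwoTab.HN.le_N

/-- **`HN`, `n = 9`** -/
theorem row_hn9 (S : AltCore.Sit X 9) (h : Spor.IsoHN X) : False := by
  obtain ⟨ex⟩ := h
  have hcard : Nat.card X = 273030912000000 := by
    rw [Nat.card_congr ex.toEquiv]
    exact KFacts.HN.Classes.card_HN
  have hw : orderOf (el S p7_mem : X) = 7 := by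
    rw [orderOf_el]
    have : Fact (Nat.Prime 7) := ⟨by norm_num⟩
    exact orderOf_eq_prime (by decide +kernel) (by decide +kernel)
  obtain ⟨z, hz, hz7⟩ := RowsB.Inv.congr ex.symm RowsB.inv_hn7
  have he := Parity.even_cent_of_small (by norm_num : Nat.Prime 7) (by rw [hcard]; norm_num) hz hz7 hw
  obtain ⟨u, hu, htu, huw, σ, hσ2, hσ, hσc⟩ := S.exists_invo (by norm_num) (el S p7_mem) he
  rw [e_el] at hσc
  obtain ⟨s, h1, h2, h3⟩ := fix_seven hσ2 hσc
  have h7 : 7 ∣ Nat.card ↥(centralizer ({u} : Set X)) := by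
    have h4 : orderOf (⟨_, mem_centralizer_singleton_iff.2 huw.symm⟩ : ↥(centralizer ({u} : Set X))) = 7 := by
      rw [Subgroup.orderOf_mk, hw]
    rw [← h4]
    exact _root_.orderOf_dvd_natCard _
  obtain ⟨g, hg⟩ := conj_Q0 (u := ex u) (by rw [MulEquiv.orderOf_eq, hu]) (by rwa [RowsB.card_cent_equiv])
  let f : Spor.HN ≃* X := g.trans ex.symm
  have hfu : f (Cfsg.Agent.HN.XWords.Q 0) = u := by
    change ex.symm (g _) = u
    rw [hg, ex.symm_apply_apply]
  have T : TopP X u (CTwoTab.HN.N.map f.toMonoidHom) := hfu ▸ RowsF.topP_map f topP_hn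
  set N := CTwoTab.HN.N.map f.toMonoidHom with hN
  obtain ⟨q⟩ := CTwoTab.HN.quo_equiv
  let eN : ↥N ≃* Cfsg.Agent.HN.HS100.K :=
    (CTwoTab.HN.N.equivMapOfInjective f.toMonoidHom f.injective).symm.trans CTwoTab.HN.eN.symm
  let eq : ↥N ⧸ center ↥N ≃* Spor.HS := (RowsF.quoEquiv eN).trans q
  obtain ⟨D⟩ := KFacts.HS.exists_mod (⟨eq⟩ : Spor.IsoHS (↥N ⧸ center ↥N))
  have hsHS := CTwoTab.HN.simple_HS
  have hsL : IsSimpleGroup (↥N ⧸ center ↥N) := eq.isSimpleGroup
  have hc : Nat.card ↥s = 7 := by rw [Nat.card_eq_fintype_card, Fintype.card_coe, h2]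
  have hperf : commutator ↥(alternatingGroup ↥s) = ⊤ := commutator_alternatingGroup_eq_top (by omega)
  have hcen : center ↥(alternatingGroup ↥s) = ⊥ := alternatingGroup.center_eq_bot (by omega)
  have hB : (gA S s).range ≤ N := by
    apply T.max _ _ (range_perf hperf _)
    rintro _ ⟨a, rfl⟩
    rw [mem_centralizer_singleton_iff]
    exact (mul_inv_eq_iff_eq_mul.1 (gA_comm S htu hσ h1 a)).symm
  let φ : ↥(alternatingGroup ↥s) →* ↥N ⧸ center ↥N :=
    (QuotientGroup.mk' (center ↥N)).comp ((gA S s).codRestrict N (fun a => hB ⟨a, rfl⟩))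
  have hφ : Function.Injective φ := by
    rw [injective_iff_map_eq_one]
    intro a ha
    have h4 : (gA S s).codRestrict N (fun a => hB ⟨a, rfl⟩) a ∈ center ↥N := (QuotientGroup.eq_one_iff _).1 ha
    rw [mem_center_iff] at h4
    have h5 : a ∈ center ↥(alternatingGroup ↥s) := by
      rw [mem_center_iff]
      intro b
      apply gA_injective S s
      rw [map_mul, map_mul]
      exact congrArg Subtype.val (h4 ((gA S s).codRestrict N (fun a => hB ⟨a, rfl⟩) b))
    rw [hcen] at h5
    exact h5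
  have hna : ¬ IsMulCommutative (↥N ⧸ center ↥N) := by
    intro hc'
    have h4 : ∀ a : ↥(alternatingGroup ↥s), a ∈ center ↥(alternatingGroup ↥s) := by
      intro a
      rw [mem_center_iff]
      intro b
      apply hφ
      rw [map_mul, map_mul]
      exact hc'.is_comm.comm _ _
    have h5 : Nat.card ↥(alternatingGroup ↥s) = 1 := by
      rw [Nat.card_eq_one_iff_unique]
      refine ⟨⟨fun a b => ?_⟩, ⟨1⟩⟩
      have ha := h4 a
      have hb := h4 b
      rw [hcen, mem_bot] at ha hb
      rw [ha, hb]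
    rw [card_alt_seven h2] at h5
    norm_num at h5
  have hbb : bar (tau S.tt (fun x (hx : x ∈ N) => map_mem htu T hx)) *
      bar (tau S.tt (fun x (hx : x ∈ N) => map_mem htu T hx)) = 1 := by
    ext x
    obtain ⟨y, rfl⟩ := QuotientGroup.mk'_surjective _ x
    rw [MulAut.mul_apply, bar_mk, bar_mk, MulAut.one_apply]
    congr 1
    exact Subtype.ext (DFunLike.congr_fun S.tt (y : X))
  have h6 := HSFix.main D (CpAut.center_eq_bot_of_simple hna)
    (bar (tau S.tt (fun x (hx : x ∈ N) => map_mem htu T hx))) hbb φ hφ (fun b => by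
      change bar _ (QuotientGroup.mk' (center ↥N) _) = QuotientGroup.mk' (center ↥N) _
      rw [bar_mk]
      congr 1
      exact Subtype.ext (S.fix _ (gA_mem S s b))) (card_alt_seven h2) hcen hperf
  have h8 := two_pow_dvd S (by norm_num) htu hσ T h6
  rw [h3] at h8
  norm_num at h8

end Cfsg.Agent.H291.RowsH
end
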