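import Cfsg.Agent.H292.RowAll
import Cfsg.Agent.H300.Sp4Three
import Cfsg.Agent.H78.TeFour
import Cfsg.Agent.H902.Compare
import Cfsg.Agent.H284.SepOrd
import Cfsg.Agent.SmallSimple.S1000.PSLFacts
import Cfsg.Agent.SevenCases.TabLie
import Cfsg.Agent.S0256
import Cfsg.Agent.Prune
set_option linter.all false
prune_inst 0x7f00000000000000000000000000000000000000000000000000000000000000000000000000000000000000000000000000000000000000000000000000000000000000000000000000000000000000003fffffffffffffffffffffffffffbeffbdffffffff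
open scoped Cfsg.Agent.FastGrp

/-!
# Components of `C_K(x)`, `K` of Lie type in characteristic two, `x` involutory: the names (helper291)

From T3 of helper292 (classical groups), helper829, helper296, helper78 (exceptional groups) and helper300 (`PSp₄`).

* `named` : `A` a component of `C_K(x)` with `3 ∣ |A|`: the names of `K` and `A` form a pair of `Pr` or `Pr4`, or `ExcA A`;
* `alt` : `A ≅ A_n`, `n ≥ 8`: `n = 8` and `K ≅ PSL_4(4)`;
* `psl` : `A / Z(A) ≅ PSL_m(2^n)`, `m ≥ 3`: `K ≅ PSL_m(4^n)`.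
-/

set_option autoImplicit false
set_option linter.unusedSectionVars false

namespace Cfsg.Agent.H291.LieTwo

open Subgroup Cfsg Cfsg.Agent.OrdDiv Cfsg.Agent.H902 Cfsg.Agent.H902.Names Cfsg.Agent.H292.Rows
open Cfsg.Agent.H292.Out

universe u v

/-! ### `PSp₄` -/

/-- the pairs for `PSp₄(q)` -/
inductive Pr4 : Grp → Grp → Prop
  | s (q : ℕ) : Pr4 (.psp 2 (q ^ 2)) (.psp 2 q)
  | a : Pr4 (.psp 2 4) (.alt 6)

/-- all components with `3 ∣ |A|` are named -/
def Out4 (K : Type u) [Group K] (g : Grp) : Prop :=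
  ∀ (x : MulAut K), x * x = 1 → x ≠ 1 → ∀ A : Subgroup ↥(fixedSubgroup x), IsComponent A → 3 ∣ Nat.card ↥A →
    ∃ h, Pr4 g h ∧ OrdDiv.Real h ↥A ∧ N2 h (Nat.card ↥A)

section sp4

variable {F : Type} [Field F] [Fintype F] [CharP F 2]

theorem row_sp4 (hF : 3 ≤ Fintype.card F) : Out4 (PSp 2 F) (.psp 2 (Fintype.card F)) := by
  intro x hx hx1 A hA h3
  have hs : IsSimpleGroup (PSp 2 F) := S0270.result 2 le_rfl (fun _ => hF)
  have hfin : Finite (PSp 2 F) := Finite.of_surjective _ (QuotientGroup.mk'_surjective _)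
  have hK : IsChevSimple 2 (PSp 2 F) := by
    have : IsPSpChar 2 (PSp 2 F) :=
      ⟨F, inferInstance, inferInstance, inferInstance, 2, le_rfl, fun _ => hF, ⟨MulEquiv.refl _⟩⟩
    unfold IsChevSimple IsLieTypeChar
    tauto
  have hno : ((∃ y, x = MulAut.conj y) ∨ Cen x) → False := no_comp (hna_of_comp hA) hK hx hx1 hA
  have hsemi : ∃ g : ClassicalGeometry.SympAutSemi.semiSim 2 F, ClassicalGeometry.SympAutSemi.Psi 2 F g = x := by
    by_contra hsemi
    have ht : ∃ t : F, t ≠ 0 ∧ t ≠ 1 := H829.ExcComp.exists_ne_of_card hF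
    have : Fact (Nat.Prime 3) := ⟨Nat.prime_three⟩
    obtain ⟨a, ha⟩ := exists_prime_orderOf_dvd_card' 3 h3
    have h4 : ((a : ↥(fixedSubgroup x)) : PSp 2 F) ^ 3 = 1 := by
      have h4 : a ^ 3 = 1 := by rw [← ha, pow_orderOf_eq_one]
      exact congrArg (fun t : ↥A => ((t : ↥(fixedSubgroup x)) : PSp 2 F)) h4
    have h5 := H300.Sp4Three.no_three ht (x := x) (fun ⟨g, hg⟩ => hsemi ⟨g, hg⟩) h4 (a : ↥(fixedSubgroup x)).2
    have h6 : a = 1 := Subtype.ext (Subtype.ext h5)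
    rw [h6, orderOf_one] at ha
    omega
  rcases H292.PspTwo.out_of_semi (by norm_num) (by rw [pow_two, hx]) hsemi with ⟨y, hy⟩ | ⟨F₀, i1, i2, hc, h⟩
  · exact (hno (Or.inl ⟨y, hy.symm⟩)).elim
  · have : CharP F₀ 2 := char_of_card two_ne_zero hc
    rcases of_core_psp F₀ (by norm_num) h hA with ⟨-, h5⟩ | ⟨h2, -⟩ | ⟨-, h6, h5⟩
    · rw [hc]
      exact ⟨_, .s _, h5⟩
    · omega
    · rw [hc, h6]
      exact ⟨_, .a, h5⟩

end sp4

theorem real4_tr {S : Type u} {T : Type v} [Group S] [Group T] (e : S ≃* T) {g h : Grp} (hp : Pr4 g h)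
    (hr : OrdDiv.Real h S) : OrdDiv.Real h T := by
  cases hp with
  | s q =>
    obtain ⟨F, i1, i2, hc, ⟨f⟩⟩ := hr
    exact ⟨F, i1, i2, hc, ⟨e.symm.trans f⟩⟩
  | a =>
    obtain ⟨f⟩ := hr
    exact ⟨e.symm.trans f⟩

theorem Out4.congr {K : Type u} {K' : Type v} [Group K] [Group K'] (e : K ≃* K') {g : Grp} (h : Out4 K g) :
    Out4 K' g := by
  intro x hx hx1 A hA hd
  obtain ⟨y, hy⟩ : ∃ y : MulAut K, y = (MulAut.congr e).symm x := ⟨_, rfl⟩
  have hxy : MulAut.congr e y = x := by rw [hy, MulEquiv.apply_symm_apply]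
  subst hxy
  have h2 : y * y = 1 := by
    rw [← map_mul] at hx
    exact (MulAut.congr e).injective (by rw [hx, map_one])
  have h3 : y ≠ 1 := by
    rintro rfl
    exact hx1 (map_one _)
  have f := CpAut.fixEquiv e y
  have e' : ↥A ≃* ↥(A.map f.symm.toMonoidHom) := A.equivMapOfInjective f.symm.toMonoidHom f.symm.injective
  obtain ⟨g', h4, h5, h6⟩ := h y h2 h3 (A.map f.symm.toMonoidHom)
    (SignalizersComponents.Components.isComponent_map_equiv f.symm hA) (by rwa [← Nat.card_congr e'.toEquiv])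
  refine ⟨g', h4, real4_tr e'.symm h4 h5, ?_⟩
  rw [Nat.card_congr e'.toEquiv]
  exact h6

/-! ### exceptional groups -/

/-- the shapes of the exceptional groups which occur -/
def ExcSh (X : Art.Sh) : Prop :=
  X = .G2 ∨ X = .F4 ∨ X = .E6 ∨ X = .E7 ∨ X = .E8 ∨ X = .TE6 ∨ X = .TD4 ∨ X = .TF4

/-- `A` is exceptional of characteristic two, `U₃(3)` or the Tits group -/
def ExcA (A : Type u) [Group A] : Prop :=
  (∃ X f, ExcSh X ∧ Art.Real X 2 f (Nat.card A)) ∨ Nat.card A = 6048 ∨ Lie.IsoTits A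

theorem excA_of_pair (T : OrderTable.{u}) {K : Type u} {A : Type v} [Group K] [Group A] (h : H829.ExcComp.Pair K A) :
    ExcA A := by
  have key : ∀ {F : Type} [Field F] [Fintype F] [CharP F 2], ∃ f, 1 ≤ f ∧ Fintype.card F = 2 ^ f := fun {F} _ _ _ =>
    card_two F
  rcases h with ⟨F, F₀, i1, i2, i3, i4, i5, i6, hc, h⟩ | ⟨F, F₀, i1, i2, i3, i4, i5, i6, q, q₀, h1, h2, h3, h4, -, ⟨b⟩⟩ |
    ⟨F, i1, i2, i3, m, h1, -, h2⟩ | ⟨F, i1, i2, i3, -, h2⟩ | ⟨F, F₀, i1, i2, i3, i4, i5, i6, q, h1, h2, -, ⟨b⟩⟩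
  · obtain ⟨f, hf, hF⟩ := key (F := F₀)
    rcases h with ⟨h, -, ⟨b⟩⟩ | ⟨h, -, L, j1, j2, hL, ⟨b⟩⟩ | ⟨-, ⟨b⟩⟩ | ⟨-, ⟨b⟩⟩ | ⟨-, ⟨b⟩⟩ | ⟨-, ⟨b⟩⟩
    · rw [hF] at h
      refine Or.inl ⟨.G2, f, Or.inl rfl, ⟨Nat.prime_two, hf, h, ?_⟩⟩
      rw [Nat.card_congr b.toEquiv, T.g2 F₀, hF]
      change 1 * _ = (2 ^ f) ^ 6 * (_ * _)
      ring
    · exact Or.inr (Or.inl (by rw [Nat.card_congr b.toEquiv, SmallSimple.PSLFacts.card_psu_three_three hL]))
    · refine Or.inl ⟨.F4, f, by simp [ExcSh], ⟨Nat.prime_two, hf, trivial, ?_⟩⟩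
      rw [Nat.card_congr b.toEquiv, T.f4 F₀ _ hF]
      change 1 * _ = (2 ^ f) ^ 24 * (_ * _ * _ * _)
      ring
    · refine Or.inl ⟨.E6, f, by simp [ExcSh], ⟨Nat.prime_two, hf, trivial, ?_⟩⟩
      rw [Nat.card_congr b.toEquiv]
      change Nat.gcd 3 (2 ^ f - 1) * _ = (2 ^ f) ^ 36 * (_ * _ * _ * _ * _ * _)
      rw [T.e6 F₀ _ hF]
      ring
    · refine Or.inl ⟨.E7, f, by simp [ExcSh], ⟨Nat.prime_two, hf, trivial, ?_⟩⟩
      rw [Nat.card_congr b.toEquiv]
      change Nat.gcd 2 (2 ^ f - 1) * _ = (2 ^ f) ^ 63 * (_ * _ * _ * _ * _ * _ * _)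
      rw [T.e7 F₀ _ hF]
      ring
    · refine Or.inl ⟨.E8, f, by simp [ExcSh], ⟨Nat.prime_two, hf, trivial, ?_⟩⟩
      rw [Nat.card_congr b.toEquiv, T.e8 F₀ _ hF]
      change 1 * _ = (2 ^ f) ^ 120 * (_ * _ * _ * _ * _ * _ * _ * _)
      ring
  · obtain ⟨f, hf, hF⟩ := key (F := F₀)
    obtain ⟨k, hk, rfl⟩ := H284.SepOrd.root_pow Nat.prime_two (by norm_num) ⟨f, hf, hF⟩ h4
    refine Or.inl ⟨.TD4, k, by simp [ExcSh], ⟨Nat.prime_two, hk, trivial, ?_⟩⟩
    rw [Nat.card_congr b.toEquiv, T.td4 F₀ _ h1 h4]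
    change 1 * _ = (2 ^ k) ^ 12 * (_ * _ * _)
    ring
  · rcases h2 with ⟨hm, ⟨b⟩⟩ | ⟨-, h⟩
    · refine Or.inl ⟨.TF4, 2 * m + 1, by simp [ExcSh], ⟨Nat.prime_two, by omega, ⟨rfl, odd_two_mul_add_one m, by omega⟩, ?_⟩⟩
      rw [Nat.card_congr b.toEquiv, T.tf4 F m hm h1]
      change 1 * _ = (2 ^ (2 * m + 1)) ^ 12 * (_ * _ * _ * _)
      ring
    · exact Or.inr (Or.inr h)
  · obtain ⟨f, hf, hF⟩ := key (F := F)
    rcases h2 with ⟨q₀, h2, ⟨b⟩⟩ | ⟨⟨b⟩⟩
    · obtain ⟨k, hk, rfl⟩ := H284.SepOrd.root_pow Nat.prime_two (by norm_num) ⟨f, hf, hF⟩ h2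
      refine Or.inl ⟨.TE6, k, by simp [ExcSh], ⟨Nat.prime_two, hk, trivial, ?_⟩⟩
      rw [Nat.card_congr b.toEquiv]
      change Nat.gcd 3 (2 ^ k + 1) * _ = (2 ^ k) ^ 36 * (_ * _ * _ * _ * _ * _)
      rw [T.te6 F _ ((Nat.prime_two.isPrimePow).pow (by omega)) h2]
      ring
    · refine Or.inl ⟨.F4, f, by simp [ExcSh], ⟨Nat.prime_two, hf, trivial, ?_⟩⟩
      rw [Nat.card_congr b.toEquiv, T.f4 F _ hF]
      change 1 * _ = (2 ^ f) ^ 24 * (_ * _ * _ * _)
      ring
  · obtain ⟨f, hf, hF⟩ := key (F := F₀)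
    refine Or.inl ⟨.F4, f, by simp [ExcSh], ⟨Nat.prime_two, hf, trivial, ?_⟩⟩
    rw [Nat.card_congr b.toEquiv, T.f4 F₀ _ hF]
    change 1 * _ = (2 ^ f) ^ 24 * (_ * _ * _ * _)
    ring

/-! ### the pairs -/

/-- The names of `K` and `A` form a pair, or `A` is exceptional. -/
def Pairs (K : Type u) (A : Type v) [Group K] [Group A] : Prop :=
  (∃ g h, (Pr g h ∨ Pr4 g h) ∧ OrdDiv.Real g K ∧ N2 g (Nat.card K) ∧ OrdDiv.Real h A ∧ N2 h (Nat.card A)) ∨ ExcA A

theorem chev_of_lie {K : Type u} [Group K] (hK : IsLieTypeChar 2 K) : IsChevSimple 2 K := Or.inl hK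

theorem named (T : OrderTable.{u}) {K : Type u} [Group K] [Finite K] [IsSimpleGroup K] (hna : ¬ IsMulCommutative K)
    (hK : IsLieTypeChar 2 K) {x : MulAut K} (hx : x * x = 1) (hx1 : x ≠ 1) {A : Subgroup ↥(fixedSubgroup x)}
    (hA : IsComponent A) (h3 : 3 ∣ Nat.card ↥A) : Pairs K ↥A := by
  have hcl : Cla K → Pairs K ↥A := by
    intro hC
    rcases row_all hC with ⟨g, h1, h2, h4⟩ | ⟨F, i1, i2, i3, hF, ⟨e⟩⟩
    · obtain ⟨h, h5, h6, h7⟩ := h4 x hx hx1 A hA
      exact Or.inl ⟨g, h, Or.inl h5, h1, h2, h6, h7⟩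
    · obtain ⟨h1, h2⟩ := nam_psp F le_rfl (fun _ => hF) e
      obtain ⟨h, h5, h6, h7⟩ := (row_sp4 hF).congr e.symm x hx hx1 A hA h3
      exact Or.inl ⟨_, h, Or.inr h5, h1, h2, h6, h7⟩
  have hex : (IsExceptionalChevChar 2 K ∨ IsTwistedE6D4Char 2 K ∨ Lie.IsoSuzuki K ∨ Lie.Iso2F4 K) → Pairs K ↥A :=
    fun h => Or.inr (excA_of_pair T (H78.TeFour.exc_comp hna h x (by rw [pow_two, hx]) hx1 A hA))
  rcases hK with h | h | h | h | h | h | h | h | ⟨-, h⟩ | ⟨-, h⟩ | ⟨h, -⟩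
  · exact hcl (Or.inl h)
  · exact hcl (Or.inr (Or.inr (Or.inl h)))
  · exact hcl (Or.inr (Or.inl h))
  · exfalso
    obtain ⟨F, i1, i2, i3, n, hn, ho, -⟩ := h
    obtain ⟨f, hf, hF⟩ := card_two F
    rw [hF] at ho
    exact (Nat.not_even_iff_odd.2 ho) ((even_two).pow_of_ne_zero (by omega))
  · exact hcl (Or.inr (Or.inr (Or.inr (Or.inl h))))
  · exact hcl (Or.inr (Or.inr (Or.inr (Or.inr h))))
  · exact hex (Or.inl h)
  · exact hex (Or.inr (Or.inl h))
  · exact hex (Or.inr (Or.inr (Or.inl h)))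
  · exact hex (Or.inr (Or.inr (Or.inr h)))
  · omega

/-! ### small orders -/

theorem ents6 : ∀ a ∈ Art.ents 2 6, Art.val 2 a = 20160 → a = (.L 3, 2) ∨ a = (.L 4, 1) := by decide +kernel

theorem real_20160 {X : Art.Sh} {p f : ℕ} (h : Art.Real X p f 20160) : p = 2 ∧ ((X, f) = (.L 3, 2) ∨ (X, f) = (.L 4, 1)) := by
  by_cases hp : p = 2
  · subst hp
    refine ⟨rfl, ents6 _ (Art.mem_ents h ?_) (Art.val_eq h)⟩
    have h1 : Art.Real (.L 3) 2 2 20160 := ⟨Nat.prime_two, by norm_num, ⟨by norm_num, by norm_num⟩, by decide⟩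
    rw [Art.exp_eq h h1]
    rfl
  · exact (H284.SepOrd.chk_real h H284.SepOrd.chk_20160 hp (by simp)).elim

/-- the names of order 20160 -/
theorem n2_20160 {h : Grp} (hN : N2 h 20160) : h = .alt 8 ∨ h = .psl 3 4 ∨ h = .psl 4 2 := by
  rcases hN with ⟨n, rfl, hn, hc⟩ | ⟨X, p, f, hg, hr⟩
  · left
    rw [Art.alt_inj (M := 20160) (m := 8) hn hc (by decide)]
  · right
    obtain ⟨rfl, h1 | h1⟩ := real_20160 hr
    · obtain ⟨rfl, rfl⟩ := Prod.mk.inj h1
      left
      cases hg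
      rfl
    · obtain ⟨rfl, rfl⟩ := Prod.mk.inj h1
      right
      cases hg
      rfl

theorem exp_of {X : Art.Sh} {f M : ℕ} (hr : Art.Real X 2 f M) (k o : ℕ) (hM : M = 2 ^ k * o) (ho : ¬ 2 ∣ o) :
    f * Art.NN X = k := by
  have h1 := hr.P_self
  rw [hM, Art.P_pow_self Nat.prime_two ho, ← pow_mul] at h1
  exact (Nat.pow_right_injective le_rfl h1).symm

/-- the list of shapes `L_m`, `m ≥ 3`, of order `M` with `2`-part `2 ^ v` -/
def okL (M v : ℕ) (l : List (ℕ × ℕ)) : Bool :=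
  (Art.ents 2 v).all fun a => match a.1 with
    | .L k => decide (k ≤ 2) || (decide (Art.val 2 a ≠ M) || decide ((k, a.2) ∈ l))
    | _ => true

theorem okL_spec {m n M v : ℕ} {l : List (ℕ × ℕ)} (hm : 3 ≤ m) (hr : Art.Real (.L m) 2 n M)
    (hv : n * Art.NN (.L m) = v) (hl : okL M v l = true) : (m, n) ∈ l := by
  have h1 := Art.mem_ents hr hv
  have h2 := List.all_eq_true.1 hl _ h1
  have h3 := Art.val_eq hr
  simp only [h3, ne_eq, not_true_eq_false, decide_false, Bool.false_or, Bool.or_eq_true, decide_eq_true_eq] at h2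
  rcases h2 with h2 | h2
  · omega
  · exact h2

/-- `PSL_m(2^n)`, `m ≥ 3`, has none of the exceptional orders but 168 and 20160 -/
theorem exc_psl {m n M : ℕ} (hm : 3 ≤ m) (hr : Art.Real (.L m) 2 n M) (h : Exc M) :
    (m = 3 ∧ n = 1) ∨ (M = 20160 ∧ ((m = 3 ∧ n = 2) ∨ (m = 4 ∧ n = 1))) := by
  rcases h with rfl | rfl | rfl | rfl | rfl
  · have := okL_spec hm hr (exp_of hr 2 15 (by norm_num) (by norm_num)) (l := []) (by decide +kernel)
    simp at this
  · have := okL_spec hm hr (exp_of hr 3 21 (by norm_num) (by norm_num)) (l := [(3, 1)]) (by decide +kernel)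
    simp only [List.mem_cons, List.not_mem_nil, or_false, Prod.mk.injEq] at this
    exact Or.inl this
  · have := okL_spec hm hr (exp_of hr 3 45 (by norm_num) (by norm_num)) (l := []) (by decide +kernel)
    simp at this
  · have := okL_spec hm hr (exp_of hr 6 315 (by norm_num) (by norm_num)) (l := [(3, 2), (4, 1)]) (by decide +kernel)
    simp only [List.mem_cons, List.not_mem_nil, or_false, Prod.mk.injEq] at this
    exact Or.inr ⟨rfl, this⟩
  · have := okL_spec hm hr (exp_of hr 6 405 (by norm_num) (by norm_num)) (l := []) (by decide +kernel)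
    simp at this

/-- `A` exceptional is not `PSL_m(2^n)`, `m ≥ 3` -/
theorem not_exc (T : OrderTable.{v}) {A : Type v} [Group A] (h : ExcA A) {m n : ℕ} (hm : 3 ≤ m) (hr : Art.Real (.L m) 2 n (Nat.card A)) :
    False := by
  rcases h with ⟨X, f, hX, hR⟩ | h | h
  · rcases Art.same_char hr hR with ⟨rfl, -⟩ | h
    · unfold ExcSh at hX
      simp at hX
    · rw [h] at hR
      rcases (real_20160 hR).2 with h1 | h1
      · obtain ⟨rfl, -⟩ := Prod.mk.inj h1
        unfold ExcSh at hX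
        simp at hX
      · obtain ⟨rfl, -⟩ := Prod.mk.inj h1
        unfold ExcSh at hX
        simp at hX
  · rw [h] at hr
    have := okL_spec hm hr (exp_of hr 5 189 (by norm_num) (by norm_num)) (l := []) (by decide +kernel)
    simp at this
  · rw [show Nat.card A = 17971200 from T.spor A (.tits, 17971200) (by decide) h] at hr
    have := okL_spec hm hr (exp_of hr 11 8775 (by norm_num) (by norm_num)) (l := []) (by decide +kernel)
    simp at this

theorem three_dvd {m n M : ℕ} (hm : 3 ≤ m) (hr : Art.Real (.L m) 2 n M) : 3 ∣ M := by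
  obtain ⟨k, rfl⟩ : ∃ k, m = k + 3 := ⟨m - 3, by omega⟩
  have heq := hr.eq
  obtain ⟨q, hq⟩ : ∃ q, q = 2 ^ n := ⟨_, rfl⟩
  have hq2 : 2 ≤ q := by rw [hq]; exact hr.q_ge
  rw [← hq] at heq
  have h1 : Art.num (.L (k + 3)) q = (q ^ 2 - 1) * ((q ^ 3 - 1) * ∏ i ∈ Finset.range k, (q ^ (i + 4) - 1)) := by
    change ∏ i ∈ Finset.range (k + 2), (q ^ (i + 2) - 1) = _
    rw [Finset.prod_range_succ', Finset.prod_range_succ']
    ring
  have h2 : Art.dd (.L (k + 3)) q = Nat.gcd (k + 3) (q - 1) := rfl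
  rw [h1, h2] at heq
  obtain ⟨c, hc⟩ := Nat.gcd_dvd_right (k + 3) (q - 1)
  have h3 : q ^ 2 - 1 = (q - 1) * (q + 1) := by
    obtain ⟨r, rfl⟩ : ∃ r, q = r + 1 := ⟨q - 1, by omega⟩
    rw [Nat.add_sub_cancel, Nat.sub_eq_iff_eq_add (Nat.one_le_pow _ _ (by omega))]
    ring
  have hg : 0 < Nat.gcd (k + 3) (q - 1) := Nat.gcd_pos_of_pos_left _ (by omega)
  have h4 : M = q ^ Art.NN (.L (k + 3)) * (c * (q + 1)) * ((q ^ 3 - 1) * ∏ i ∈ Finset.range k, (q ^ (i + 4) - 1)) := by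
    apply Nat.eq_of_mul_eq_mul_left hg
    rw [heq, h3]
    nth_rw 1 [hc]
    ring
  have h5 : 3 ∣ (q + 1) * (q ^ 3 - 1) := by
    have h6 : q % 3 = 1 ∨ q % 3 = 2 := by
      have : ¬ 3 ∣ q := by
        intro h
        rw [hq] at h
        have := (Nat.prime_three).dvd_of_dvd_pow h
        omega
      omega
    rcases h6 with h6 | h6
    · apply Dvd.dvd.mul_left
      have h7 : q ^ 3 % 3 = 1 := by rw [Nat.pow_mod, h6]
      omega
    · apply Dvd.dvd.mul_right
      omega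
  rw [h4]
  obtain ⟨d, hd⟩ := h5
  refine ⟨q ^ Art.NN (.L (k + 3)) * c * d * ∏ i ∈ Finset.range k, (q ^ (i + 4) - 1), ?_⟩
  calc _ = q ^ Art.NN (.L (k + 3)) * c * ((q + 1) * (q ^ 3 - 1)) * ∏ i ∈ Finset.range k, (q ^ (i + 4) - 1) := by ring
    _ = _ := by rw [hd]; ring

theorem char_two {F : Type*} [Field F] [Fintype F] {n : ℕ} (hF : Fintype.card F = 2 ^ n) : CharP F 2 := by
  obtain ⟨p, hc⟩ := CharP.exists F
  obtain ⟨k, hp, hk⟩ := FiniteField.card F p
  have h2 : p ∣ 2 ^ n := by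
    rw [← hF, hk]
    exact dvd_pow_self p k.ne_zero
  have h3 : p = 2 := (Nat.prime_dvd_prime_iff_eq hp Nat.prime_two).1 (hp.dvd_of_dvd_pow h2)
  rw [← h3]
  exact hc

/-- **`A ≅ PSL_m(2^n)` implies `K ≅ PSL_m(4^n)`.** -/
theorem psl_of_pairs (T : OrderTable.{v}) {K : Type u} {A : Type v} [Group K] [Group A] (h : Pairs K A) {m n : ℕ} (hm : 3 ≤ m)
    (hn : 1 ≤ n) (hmn : m ≤ 4 → 2 ≤ n) {F : Type} [Field F] [Fintype F] (hF : Fintype.card F = 2 ^ n)
    (e : A ≃* Matrix.ProjectiveSpecialLinearGroup (Fin m) F) :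
    ∃ (K' : Type) (_ : Field K') (_ : Fintype K'), Fintype.card K' = 4 ^ n ∧
      Nonempty (K ≃* Matrix.ProjectiveSpecialLinearGroup (Fin m) K') := by
  have hc2 := char_two hF
  have hr : Art.Real (.L m) 2 n (Nat.card A) := by
    rw [Nat.card_congr e.toEquiv]
    exact psl_real Nat.prime_two hn hF (by omega) (fun h => by omega)
  obtain ⟨h1, h2⟩ := nam_psl F (by omega) (fun h => by omega) e
  rw [hF] at h1 h2
  have key : ∀ g, (Pr g (.psl m (2 ^ n)) ∨ Pr4 g (.psl m (2 ^ n))) → OrdDiv.Real g K → ∃ (K' : Type) (_ : Field K')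
      (_ : Fintype K'), Fintype.card K' = 4 ^ n ∧ Nonempty (K ≃* Matrix.ProjectiveSpecialLinearGroup (Fin m) K') := by
    intro g hg hK
    generalize ho : Grp.psl m (2 ^ n) = o at hg
    rcases hg with hg | hg
    · cases hg <;> cases ho
      · obtain ⟨K', i1, i2, h3, h4⟩ := hK
        refine ⟨K', i1, i2, ?_, h4⟩
        rw [h3, ← pow_mul, mul_comm, pow_mul]
        norm_num
      · omega
      · omega
    · cases hg <;> cases ho
  rcases h with ⟨g, h, hp, hg, -, hA, hN⟩ | h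
  · by_cases hE : Exc (Nat.card A)
    · rcases exc_psl hm hr hE with ⟨h3, h4⟩ | ⟨h3, ⟨rfl, rfl⟩ | ⟨h4, h5⟩⟩
      · omega
      · rw [h3] at hN
        rcases n2_20160 hN with rfl | rfl | rfl
        · exfalso
          generalize ho : Grp.alt 8 = o at hp
          rcases hp with hg | hg <;> cases hg <;> cases ho
        · exact key g hp hg
        · exfalso
          obtain ⟨F', i1, i2, hF', ⟨e'⟩⟩ := hA
          obtain ⟨e2⟩ := S0256.result hF'
          exact Cfsg.Agent.ResEven.AltTwelve.not_l34 (F := F) (by rw [hF]; norm_num) ((e2.symm.trans e'.symm).trans e)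
      · omega
    · rcases n2_unique h2 hN hE with rfl | ⟨_, _, _, _, h3, _⟩ | ⟨_, _, _, _, h3, _⟩
      · exact key g hp hg
      · cases h3
      · cases h3
  · exact (not_exc T h hm hr).elim

/-- **`A ≅ A_n`, `n ≥ 8`, implies `n = 8` and `K ≅ PSL_4(4)`.** -/
theorem alt_of_pairs (T : OrderTable.{v}) {K : Type u} {A : Type v} [Group K] [Group A] (h : Pairs K A) {n : ℕ} (hn : 8 ≤ n)
    (e : A ≃* ↥(alternatingGroup (Fin n))) :
    n = 8 ∧ ∃ (F : Type) (_ : Field F) (_ : Fintype F), Fintype.card F = 4 ∧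
      Nonempty (K ≃* Matrix.ProjectiveSpecialLinearGroup (Fin 4) F) := by
  have hc : 2 * Nat.card A = n.factorial := (alt_card (by omega) e).symm
  have h8 : (8 : ℕ).factorial = 40320 := by decide
  have hge : (8 : ℕ).factorial ≤ n.factorial := Nat.factorial_le hn
  have h9 : n ≠ 8 → (9 : ℕ).factorial ≤ n.factorial := fun h => Nat.factorial_le (by omega)
  have h9' : (9 : ℕ).factorial = 362880 := by decide
  obtain ⟨h1, h2⟩ := nam_alt (by omega) e
  rcases h with ⟨g, h, hp, hg, -, hA, hN⟩ | h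
  · by_cases hE : Exc (Nat.card A)
    · have h3 : n = 8 := by
        by_contra hne
        have := h9 hne
        unfold Exc at hE
        omega
      subst h3
      refine ⟨rfl, ?_⟩
      have h4 : Nat.card A = 20160 := by omega
      rw [h4] at hN
      rcases n2_20160 hN with rfl | rfl | rfl
      · exfalso
        generalize ho : Grp.alt 8 = o at hp
        rcases hp with hg | hg <;> cases hg <;> cases ho
      · exfalso
        obtain ⟨F', i1, i2, hF', ⟨e'⟩⟩ := hA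
        exact Cfsg.Agent.ResEven.AltTwelve.not_l34 (F := F') hF' (e.symm.trans e')
      · generalize ho : Grp.psl 4 2 = o at hp
        rcases hp with hp | hp
        · cases hp <;> cases ho
          obtain ⟨K', i1, i2, h3, h4⟩ := hg
          exact ⟨K', i1, i2, by rw [h3]; norm_num, h4⟩
        · cases hp <;> cases ho
    · exfalso
      rcases n2_unique h2 hN hE with h3 | ⟨_, _, _, _, h3, _⟩ | ⟨_, _, _, _, h3, _⟩
      · rcases hp with hp | hp <;> cases hp <;> cases h3 <;> omega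
      · cases h3
      · cases h3
  · exfalso
    rcases h with ⟨X, f, hX, hR⟩ | h | h
    · have h3 : Nat.card A = 20160 := by
        rcases Art.alt_lie hR (by omega) hc with h3 | h3 | h3 <;> omega
      rw [h3] at hR
      rcases (real_20160 hR).2 with h1 | h1
      · obtain ⟨rfl, -⟩ := Prod.mk.inj h1
        unfold ExcSh at hX
        simp at hX
      · obtain ⟨rfl, -⟩ := Prod.mk.inj h1
        unfold ExcSh at hX
        simp at hX
    · omega
    · rw [show Nat.card A = 17971200 from T.spor A (.tits, 17971200) (by decide) h] at hc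
      have h10 : (10 : ℕ).factorial = 3628800 := by decide
      have h11 : (11 : ℕ).factorial = 39916800 := by decide
      rcases Nat.lt_or_ge n 11 with h3 | h3
      · have : n.factorial ≤ (10 : ℕ).factorial := Nat.factorial_le (by omega)
        omega
      · have : (11 : ℕ).factorial ≤ n.factorial := Nat.factorial_le h3
        omega

/-! ### the rows of `K` of Lie type in characteristic two -/

/-- the components are simple and normal with trivial centralizer -/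
theorem simple_comp {K : Type u} [Group K] [Finite K] [IsSimpleGroup K] (hna : ¬ IsMulCommutative K)
    (hK : IsLieTypeChar 2 K) {x : MulAut K} (hx : x * x = 1) {A : Subgroup ↥(fixedSubgroup x)} (hA : IsComponent A) :
    IsSimpleGroup ↥A ∧ A.Normal ∧ centralizer (A : Set ↥(fixedSubgroup x)) = ⊥ := by
  obtain ⟨h1, h2, h3, -⟩ := H284.CharTwoComp.of_fix (act_of_chev hna (chev_of_lie hK)) hx hA
  exact ⟨h1, h2, h3⟩

/-- **components `A_n`, `n ≥ 8`** -/
theorem alt (T : OrderTable.{u}) {K : Type u} [Group K] [Finite K] [IsSimpleGroup K] (hna : ¬ IsMulCommutative K)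
    (hK : IsLieTypeChar 2 K) {x : MulAut K} (hx : x * x = 1) (hx1 : x ≠ 1) {A : Subgroup ↥(fixedSubgroup x)}
    (hA : IsComponent A) {n : ℕ} (hn : 8 ≤ n) (e : ↥A ≃* ↥(alternatingGroup (Fin n))) :
    n = 8 ∧ ∃ (F : Type) (_ : Field F) (_ : Fintype F), Fintype.card F = 4 ∧
      Nonempty (K ≃* Matrix.ProjectiveSpecialLinearGroup (Fin 4) F) := by
  have h3 : 3 ∣ Nat.card ↥A := by
    have h1 : 2 * Nat.card ↥A = n.factorial := (alt_card (by omega) e).symm
    have h2 : 3 ∣ n.factorial := Nat.dvd_factorial (by norm_num) (by omega)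
    rw [← h1] at h2
    exact (Nat.Coprime.dvd_mul_left (by norm_num)).1 h2
  exact alt_of_pairs T (named T hna hK hx hx1 hA h3) hn e

/-- **components `A` with `A / Z(A) ≅ PSL_m(2^n)`, `m ≥ 3`** -/
theorem psl (T : OrderTable.{u}) {K : Type u} [Group K] [Finite K] [IsSimpleGroup K] (hna : ¬ IsMulCommutative K)
    (hK : IsLieTypeChar 2 K) {x : MulAut K} (hx : x * x = 1) (hx1 : x ≠ 1) {A : Subgroup ↥(fixedSubgroup x)}
    (hA : IsComponent A) {m n : ℕ} (hm : 3 ≤ m) (hn : 1 ≤ n) (hmn : m ≤ 4 → 2 ≤ n) {F : Type} [Field F] [Fintype F]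
    (hF : Fintype.card F = 2 ^ n) (e : ↥A ⧸ center ↥A ≃* Matrix.ProjectiveSpecialLinearGroup (Fin m) F) :
    ∃ (K' : Type) (_ : Field K') (_ : Fintype K'), Fintype.card K' = 4 ^ n ∧
      Nonempty (K ≃* Matrix.ProjectiveSpecialLinearGroup (Fin m) K') := by
  obtain ⟨hs, -, -⟩ := simple_comp hna hK hx hA
  have hz : center ↥A = ⊥ := by
    rcases (inferInstance : (center ↥A).Normal).eq_bot_or_eq_top with h | h
    · exact h
    · exfalso
      refine SignalizersComponents.Components.quasisimple_not_isMulCommutative hA.2 ⟨⟨fun a b => ?_⟩⟩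
      have h1 : a ∈ center ↥A := by rw [h]; exact mem_top a
      exact ((mem_center_iff.1 h1) b).symm
  have e' : ↥A ≃* Matrix.ProjectiveSpecialLinearGroup (Fin m) F :=
    ((QuotientGroup.quotientMulEquivOfEq hz).trans QuotientGroup.quotientBot).symm.trans e
  have hr : Art.Real (.L m) 2 n (Nat.card ↥A) := by
    rw [Nat.card_congr e'.toEquiv]
    exact psl_real Nat.prime_two hn hF (by omega) (fun h => by omega)
  have h3 : 3 ∣ Nat.card ↥A := three_dvd hm hr
  exact psl_of_pairs T (named T hna hK hx hx1 hA h3) hm hn hmn hF e'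

end Cfsg.Agent.H291.LieTwo

private theorem dce_041bc3f0030b : _root_.True := by
  try have : _root_.True := by simp only [_root_.Cfsg.Agent.H291.LieTwo.ExcSh.eq_1]
  exact _root_.True.intro
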